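import Cfsg.Agent.H129.TorusMain
import Cfsg.Agent.H944.TorAnyChev

/-!
# Real elements in tori (helper720)

`Y = D.group k`, `k` algebraically closed, `σ` a Frobenius frame automorphism of `Y`.

* `exists_regular` : a regular element of the torus;
* `mem_TT_of_fr` : an element whose conjugation fixes all root groups lies in the torus;
* `torus_lang` : Lang's theorem for the torus and a Frobenius frame automorphism;
* `real_fixed` : `x = z t z⁻¹` is inverted by an element of `Y^σ`, if `t ↦ t⁻¹` is induced by an element of the Weyl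
  group commuting with the twist;
* `exists_toral` : every `p'`-element of `Y^σ` is conjugate to an element of a twisted torus.
-/

set_option autoImplicit false
set_option linter.unusedSectionVars false

namespace Cfsg.Agent.H720.TorusReal

open CoxeterSystem Cfsg Cfsg.Lie Cfsg.Lie.ChevalleyDatum
open Cfsg.Agent.ChevalleyStructure Cfsg.Agent.ChevalleyStructure.Elts Cfsg.Agent.ChevalleyStructure.CoxeterGeom
  Cfsg.Agent.ChevalleyStructure.CoxeterGeomTypes Cfsg.Agent.ChevalleyStructure.NPerm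
open Cfsg.Agent.Tits.Roots Cfsg.Agent.Tits.Core Cfsg.Agent.Nodes Cfsg.Agent.Nodes.Reps Cfsg.Agent.Nodes.BNOf
  Cfsg.Agent.Nodes.RGDChev Cfsg.Agent.Nodes.Bruhat Cfsg.Agent.Nodes.SubComb Cfsg.Agent.Nodes.Coroot
open Cfsg.Agent.KFacts.RgdField Cfsg.Agent.KFacts.RgdChevCoord Cfsg.Agent.BpExc.TorCent Cfsg.Agent.BpExc.TorChev
open Cfsg.Agent.GpExc.Field Cfsg.Agent.BpExc.Tow Cfsg.Agent.BpExc.TowChev Cfsg.Agent.BpExc.Fr
  Cfsg.Agent.BpExc.LangFr Cfsg.Agent.LangThm Cfsg.Agent.BpExc Cfsg.Agent.H129.TorusChar Cfsg.Agent.H129.TorusCent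
  Cfsg.Agent.H129.TorusTw Cfsg.Agent.H129.TorusMain

universe u

/-! ### a separating functional -/

/-- balanced digits -/
theorem digits (B : ℤ) : ∀ {l : ℕ} (z : Fin l → ℤ), (∀ i, |z i| < B) → ∑ i, z i * B ^ (i : ℕ) = 0 → z = 0 := by
  intro l
  induction l with
  | zero =>
    intro z _ _
    funext i
    exact i.elim0
  | succ l ih =>
    intro z hz h
    rw [Fin.sum_univ_succ] at h
    have h1 : ∑ i : Fin l, z i.succ * B ^ ((i.succ : Fin (l + 1)) : ℕ) =
        B * ∑ i : Fin l, z i.succ * B ^ (i : ℕ) := by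
      rw [Finset.mul_sum]
      refine Finset.sum_congr rfl fun i _ => ?_
      rw [Fin.val_succ, pow_succ]
      ring
    rw [h1, Fin.val_zero, pow_zero, mul_one] at h
    have hB : B ∣ z 0 := ⟨-∑ i : Fin l, z i.succ * B ^ (i : ℕ), by linarith⟩
    have h0 : z 0 = 0 := Int.eq_zero_of_abs_lt_dvd hB (hz 0)
    have hBpos : 0 < B := lt_of_le_of_lt (abs_nonneg _) (hz 0)
    have h2 : ∑ i : Fin l, z i.succ * B ^ (i : ℕ) = 0 := by
      rw [h0, zero_add] at h
      rcases mul_eq_zero.1 h with h3 | h3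
      · exact absurd h3 hBpos.ne'
      · exact h3
    have h3 := ih (fun i => z i.succ) (fun i => hz i.succ) h2
    funext i
    refine Fin.cases h0 (fun j => ?_) i
    exact congrFun h3 j

section

variable {D : ChevalleyDatum} {l : ℕ} {M : CoxeterMatrix (Fin l)} (hp : IsType D l M) {k : Type u} [Field k]
  {W : Type*} [Group W] (cs : CoxeterSystem M W)

/-- `x ↦ u ^ f(x)` -/
theorem isMC_zpow {u : k} (hu : u ≠ 0) (f : (Fin l → ℤ) →+ ℤ) : IsMC (fun x : Fin l → ℤ => u ^ f x) where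
  zero := by
    show u ^ f 0 = 1
    rw [map_zero, zpow_zero]
  add x y := by
    show u ^ f (x + y) = u ^ f x * u ^ f y
    rw [map_add, zpow_add₀ hu]

/-- **A regular element of the torus.** -/
theorem exists_regular [IsAlgClosed k] [Finite W] (p : ℕ) [Fact p.Prime] [CharP k p] {d' : ℕ}
    {B' : Fin l → Fin l → ℤ} (hB : InvC D l d' B') (hd' : d' ≠ 0) :
    ∃ t ∈ TT D k, (∀ a, IsRoot cs hp.isCartan a → cX hp t a ≠ 1) ∧
      ∀ w : W, (∀ a, IsRoot cs hp.isCartan a → cX hp t (rep cs hp.isCartan w a) = cX hp t a) → w = 1 := by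
  set K : ℤ := ∑ r ∈ Finset.range D.nroots, ∑ i, |vec D l r i| with hK
  have hKroot : ∀ a, IsRoot cs hp.isCartan a → ∀ i, |a i| ≤ K := by
    intro a ha i
    obtain ⟨r, hr, rfl⟩ := (isRoot_iff hp cs a).1 ha
    calc |vec D l r i| ≤ ∑ i, |vec D l r i| :=
          Finset.single_le_sum (f := fun i => |vec D l r i|) (fun i _ => abs_nonneg _) (Finset.mem_univ i)
      _ ≤ K := Finset.single_le_sum (f := fun r => ∑ i, |vec D l r i|)
          (fun r _ => Finset.sum_nonneg fun i _ => abs_nonneg _) (Finset.mem_range.2 hr)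
  have hK0 : 0 ≤ K := Finset.sum_nonneg fun r _ => Finset.sum_nonneg fun i _ => abs_nonneg _
  set B : ℤ := 2 * K + 1 with hBdef
  let f : (Fin l → ℤ) →+ ℤ :=
    { toFun := fun x => ∑ i, x i * B ^ (i : ℕ)
      map_zero' := by simp
      map_add' := fun x y => by
        show ∑ i, (x + y) i * B ^ (i : ℕ) = _
        rw [← Finset.sum_add_distrib]
        exact Finset.sum_congr rfl fun i _ => by rw [Pi.add_apply, add_mul] }
  have hf : ∀ x, f x = ∑ i, x i * B ^ (i : ℕ) := fun _ => rfl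
  set L : ℕ := (∑ i : Fin l, 2 * K * B ^ (i : ℕ)).natAbs with hL
  have hBpos : 0 < B := by omega
  have hbound : ∀ x : Fin l → ℤ, (∀ i, |x i| ≤ 2 * K) → |f x| ≤ L := by
    intro x hx
    rw [hf]
    calc |∑ i, x i * B ^ (i : ℕ)| ≤ ∑ i, |x i * B ^ (i : ℕ)| := Finset.abs_sum_le_sum_abs _ _
      _ ≤ ∑ i : Fin l, 2 * K * B ^ (i : ℕ) := by
        refine Finset.sum_le_sum fun i _ => ?_
        rw [abs_mul, abs_of_pos (pow_pos hBpos (i : ℕ))]
        exact mul_le_mul_of_nonneg_right (hx i) (pow_pos hBpos _).le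
      _ ≤ L := by rw [hL]; exact Int.le_natAbs
  set N : ℕ := p * (L + 1) + 1 with hN
  have hLN : (L : ℤ) < N := by
    have h1 : L + 1 ≤ p * (L + 1) := Nat.le_mul_of_pos_left _ (Fact.out : p.Prime).pos
    rw [hN]
    push_cast
    have h2 : ((L : ℤ) + 1) ≤ p * (L + 1) := by exact_mod_cast h1
    linarith
  have hNk : (N : k) = 1 := by
    rw [hN]
    push_cast
    rw [CharP.cast_eq_zero k p, zero_mul, zero_add]
  have hNne : NeZero (N : k) := ⟨by rw [hNk]; exact one_ne_zero⟩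
  obtain ⟨u, hu⟩ := HasEnoughRootsOfUnity.exists_primitiveRoot k N
  have hu0 : u ≠ 0 := hu.ne_zero (by omega)
  obtain ⟨t, ht, h3⟩ := exists_cX hp hB hd' (isMC_zpow (k := k) hu0 f)
    (fun i => IsAlgClosed.exists_pow_nat_eq _ (Nat.pos_of_ne_zero hd'))
  have hkey : ∀ x : Fin l → ℤ, (∀ i, |x i| ≤ 2 * K) → u ^ f x = 1 → x = 0 := by
    intro x hx h4
    rw [hu.zpow_eq_one_iff_dvd] at h4
    have h5 : f x = 0 := Int.eq_zero_of_abs_lt_dvd h4 (lt_of_le_of_lt (hbound x hx) hLN)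
    exact digits B x (fun i => by have := hx i; omega) (by rw [← hf]; exact h5)
  refine ⟨t, ht, fun a ha h4 => ?_, fun w hw => ?_⟩
  · rw [h3] at h4
    have h5 := hkey a (fun i => (hKroot a ha i).trans (by omega)) h4
    exact ha.ne_zero h5
  · refine ChevalleyStructure.CoxeterGeom.eq_one_of_fix cs hp.isCartan w fun i => ?_
    have hr := isRoot_sr cs hp.isCartan i
    have h4 := hw _ hr
    rw [h3, h3] at h4
    have h5 : u ^ f (rep cs hp.isCartan w (sr i) - sr i) = 1 := by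
      rw [map_sub, zpow_sub₀ hu0, h4, div_self (zpow_ne_zero _ hu0)]
    have h6 := hkey _ (fun j => ?_) h5
    · exact sub_eq_zero.1 h6
    · have h7 := hKroot _ (hr.act w) j
      have h8 := hKroot _ hr j
      rw [Pi.sub_apply]
      calc |rep cs hp.isCartan w (sr i) j - sr i j| ≤ |rep cs hp.isCartan w (sr i) j| + |sr i j| := abs_sub _ _
        _ ≤ 2 * K := by linarith

end

/-! ### frame automorphisms -/

section Frame

variable {D : ChevalleyDatum} {l : ℕ} {M : CoxeterMatrix (Fin l)} (hp : IsType D l M) {k : Type u} [Field k]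
  {W : Type*} [Group W] (cs : CoxeterSystem M W) {p e : ℕ} [Fact p.Prime] [CharP k p] {σ : MulAut ↥(D.group k)}
  {g : (Fin l → ℤ) ≃+ (Fin l → ℤ)}

/-- **Conjugation by a representative.** -/
theorem fr_conj (hk : LocFin k) (p : ℕ) [Fact p.Prime] [CharP k p] {hN : NSys M (TT D k) (nc hp k)} {w : W}
    {n : ↥(D.group k)} (hn : Rp cs hN w n) :
    Fr cs hp.isCartan (TT D k) (XX D l k) (MulAut.conj n) (repAut cs hp.isCartan w) := by
  have H := tow hp cs hk p
  have hn' : Rp cs H.nsys w n := by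
    revert hN
    rw [← TL_eq hp hk]
    intro hN hn
    exact hn
  have h1 := Fr.conj H hn'
  rwa [TL_eq hp hk, XL_eq hp hk] at h1

/-- **An element fixing the frame is in the torus.** -/
theorem mem_TT_of_fr [IsAlgClosed k] [Finite W] (hk : LocFin k) (p : ℕ) [Fact p.Prime] [CharP k p] {d' : ℕ}
    {B' : Fin l → Fin l → ℤ} (hB : InvC D l d' B') (hd' : d' ≠ 0) {c : ↥(D.group k)}
    {g : (Fin l → ℤ) ≃+ (Fin l → ℤ)} (hg : ∀ x, g x = x)
    (F : Fr cs hp.isCartan (TT D k) (XX D l k) (MulAut.conj c) g) : c ∈ TT D k := by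
  obtain ⟨t, ht, h1, h2⟩ := exists_regular (k := k) hp cs p hB hd'
  have hct : c * t * c⁻¹ ∈ TT D k := (F.tor t).2 ht
  have e : c * t * c⁻¹ = t := by
    refine cX_inj hp hct ht fun i => ?_
    have hfc : IsFrob (D := D) (k := k) p 0 (MulAut.conj c) := IsFrob.conj c
    have h3 := cX_sigma hp cs hfc F ht (sr i)
    rw [hg, pow_zero, pow_one] at h3
    exact h3
  rw [mul_inv_eq_iff_eq_mul] at e
  exact mem_TT_of_comm (k := k) hp cs ht hk p h1 h2 e

include hp in
/-- the torus is commutative -/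
theorem TT_comm {s t : ↥(D.group k)} (hs : s ∈ TT D k) (ht : t ∈ TT D k) : s * t = t * s := by
  refine cX_inj hp (mul_mem hs ht) (mul_mem ht hs) fun i => ?_
  rw [cX_mul hp hs ht, cX_mul hp ht hs, mul_comm]

/-- a frame automorphism has finite order on the lattice -/
theorem exists_period' [Finite W] (F : Fr cs hp.isCartan (TT D k) (XX D l k) σ g) :
    ∃ m : ℕ, 0 < m ∧ ∀ x, g^[m] x = x := by
  obtain ⟨m, hm, h1⟩ := Cfsg.Agent.BpExc.NInst.exists_period F
  refine ⟨m, hm, fun x => ?_⟩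
  have hadd : ∀ x y, g^[m] (x + y) = g^[m] x + g^[m] y := fun x y => by
    exact iterate_map_add g m x y
  let G : (Fin l → ℤ) →+ (Fin l → ℤ) := AddMonoidHom.mk' (g^[m]) hadd
  have h2 : G = AddMonoidHom.id _ := by
    have h3 : ∀ x, G x = x := by
      intro x
      conv_lhs => rw [IsMC.eq_sum_sr x]
      conv_rhs => rw [IsMC.eq_sum_sr x]
      rw [map_sum]
      refine Finset.sum_congr rfl fun i _ => ?_
      rw [map_zsmul]
      congr 1
      exact h1 _ (isRoot_sr cs hp.isCartan i)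
    exact AddMonoidHom.ext h3
  exact DFunLike.congr_fun h2 x

/-- a power of a Frobenius frame automorphism is a power map on the torus -/
theorem exists_pow [IsAlgClosed k] [Finite W] (hσ : IsFrob p e σ)
    (F : Fr cs hp.isCartan (TT D k) (XX D l k) σ g) :
    ∃ m : ℕ, 0 < m ∧ ∀ s ∈ TT D k, (σ ^ m) s = s ^ p ^ (m * e) := by
  obtain ⟨m, hm, h1⟩ := exists_period' hp cs F
  refine ⟨m, hm, fun s hs => ?_⟩
  obtain ⟨g', F', hg'⟩ := F.pow m
  have h2 : (σ ^ m) s ∈ TT D k := (F'.tor s).2 hs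
  refine cX_inj hp h2 (pow_mem hs _) fun i => ?_
  have h3 := cX_sigma hp cs (hσ.pow m) F' hs (sr i)
  rw [hg', h1] at h3
  rw [h3, cX_pow hp hs]

include hp in
/-- the torus is divisible -/
theorem exists_root' [IsAlgClosed k] {d' : ℕ} {B' : Fin l → Fin l → ℤ} (hB : InvC D l d' B') (hd' : d' ≠ 0)
    {c : ↥(D.group k)} (hc : c ∈ TT D k) {N : ℕ} (hN : N ≠ 0) : ∃ s ∈ TT D k, s ^ N = c := by
  have h1 : ∀ i : Fin l, ∃ b : k, b ^ N = cX hp c (sr i) := fun i =>
    IsAlgClosed.exists_pow_nat_eq _ (Nat.pos_of_ne_zero hN)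
  choose b hb using h1
  have hb0 : ∀ i, b i ≠ 0 := by
    intro i h0
    have h2 := hb i
    rw [h0, zero_pow hN] at h2
    exact (isMC_cX hp hc).ne_zero _ h2.symm
  have hφ := IsMC.of_prod b hb0
  obtain ⟨s, hs, h2⟩ := exists_cX hp hB hd' hφ (fun i => IsAlgClosed.exists_pow_nat_eq _ (Nat.pos_of_ne_zero hd'))
  refine ⟨s, hs, cX_inj hp (pow_mem hs N) hc fun i => ?_⟩
  rw [cX_pow hp hs, h2, ← hb i]
  congr 1
  rw [Finset.prod_eq_single i]
  · rw [sr_self, zpow_one]
  · intro j _ hj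
    rw [sr_ne hj, zpow_zero]
  · intro hi
    exact absurd (Finset.mem_univ i) hi

/-- the product `y τ(y) ⋯ τ^(m-1)(y)` stays in the torus -/
theorem nrm {Y : Type*} [Group Y] (τ : MulAut Y) (y : Y) : ∀ m : ℕ, ∃ s : Y,
    (∀ Q : Subgroup Y, (∀ j : ℕ, (τ ^ j) y ∈ Q) → s ∈ Q) ∧ y * τ s = s * (τ ^ m) y := by
  intro m
  induction m with
  | zero => exact ⟨1, fun Q _ => one_mem Q, by rw [map_one, mul_one, pow_zero, one_mul]; rfl⟩
  | succ m ih =>
    obtain ⟨s, h1, h2⟩ := ih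
    refine ⟨s * (τ ^ m) y, fun Q hQ => mul_mem (h1 Q hQ) (hQ m), ?_⟩
    rw [map_mul, ← mul_assoc, h2, pow_succ', MulAut.mul_apply]

/-- **Lang's theorem for the torus.** -/
theorem torus_lang [IsAlgClosed k] [Finite W] (he : 0 < e) (hσ : IsFrob p e σ)
    (F : Fr cs hp.isCartan (TT D k) (XX D l k) σ g) {d' : ℕ} {B' : Fin l → Fin l → ℤ} (hB : InvC D l d' B')
    (hd' : d' ≠ 0) {c : ↥(D.group k)} (hc : c ∈ TT D k) : ∃ s ∈ TT D k, s = c * σ s := by
  obtain ⟨m, hm, h1⟩ := exists_pow hp cs hσ F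
  have hQ : 1 < p ^ (m * e) := Nat.one_lt_pow (Nat.mul_pos hm he).ne' (Fact.out : p.Prime).one_lt
  obtain ⟨n, hn⟩ : ∃ n, p ^ (m * e) = n + 1 := ⟨p ^ (m * e) - 1, by omega⟩
  obtain ⟨c', hc', h2⟩ := exists_root' hp hB hd' (inv_mem hc) (N := n) (by omega)
  have hτ : ∀ j : ℕ, (σ ^ j) c' ∈ TT D k := by
    intro j
    obtain ⟨g', F', -⟩ := F.pow j
    exact (F'.tor c').2 hc'
  obtain ⟨s, hs, h3⟩ := nrm σ c' m
  have hsT := hs (TT D k) hτ
  have hσs : σ s ∈ TT D k := (F.tor s).2 hsT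
  refine ⟨s, hsT, ?_⟩
  rw [h1 c' hc', hn, pow_succ, h2] at h3
  -- `c' σ(s) = s c⁻¹ c'`
  have h4 : c' * σ s = s * c⁻¹ * c' := by rw [h3, mul_assoc]
  rw [TT_comm hp hc' hσs] at h4
  have h5 := mul_right_cancel h4
  rw [h5, TT_comm hp hsT (inv_mem hc), mul_inv_cancel_left]

/-! ### fixed points -/

theorem repAut_symm_apply {A : Fin l → Fin l → ℤ} (h : IsCartan M A) (w : W) (x : Fin l → ℤ) :
    (repAut cs h w).symm x = rep cs h w⁻¹ x := rfl

/-- **The inverting element.** `n = z⁻¹ σ(z)` represents `w`, `t` in the torus, `w'` commutes with the twist `w g`, and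
`w'` induces `t ↦ t ^ j`. Then `z t z⁻¹` and its `j`-th power are conjugate in `Y^σ`. -/
theorem real_fixed [IsAlgClosed k] [Finite W] (hk : LocFin k) (he : 0 < e) (hσ : IsFrob p e σ)
    (F : Fr cs hp.isCartan (TT D k) (XX D l k) σ g) {d' : ℕ} {B' : Fin l → Fin l → ℤ} (hB : InvC D l d' B')
    (hd' : d' ≠ 0) {hN : NSys M (TT D k) (nc hp k)} {w w' : W} {n t z : ↥(D.group k)} (hn : Rp cs hN w n)
    (ht : t ∈ TT D k) (hz : n = z⁻¹ * σ z)
    (hcomm : ∀ x, rep cs hp.isCartan w' (theta hp cs w g x) = theta hp cs w g (rep cs hp.isCartan w' x)) {j : ℤ}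
    (hact : ∀ x, cX hp t x = cX hp t (rep cs hp.isCartan w' x) ^ j) :
    ∃ y : ↥(D.group k), σ y = y ∧ y * (z * t * z⁻¹) * y⁻¹ = (z * t * z⁻¹) ^ j := by
  obtain ⟨n', hn'⟩ := exists_rp cs hN w'
  have F1 := fr_conj hp cs hk p hn
  have F2 := fr_conj hp cs hk p hn'
  set α : MulAut ↥(D.group k) := MulAut.conj n * σ with hα
  have Fα : Fr cs hp.isCartan (TT D k) (XX D l k) α (g.trans (repAut cs hp.isCartan w)) := F1.mul F
  have hασ : IsFrob p e α := hσ.conj_mul n
  have hαn : ∀ y, α y = n * σ y * n⁻¹ := fun y => rfl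
  -- `c = n'⁻¹ α(n')`
  set c := n'⁻¹ * α n' with hc
  have hcT : c ∈ TT D k := by
    have hconj : MulAut.conj c = (MulAut.conj n')⁻¹ * (α * (MulAut.conj n' * α⁻¹)) := by
      apply MulEquiv.ext
      intro y
      have e1 : (MulAut.conj n')⁻¹ = MulAut.conj n'⁻¹ := (map_inv MulAut.conj n').symm
      rw [e1]
      show n'⁻¹ * α n' * y * (n'⁻¹ * α n')⁻¹ = n'⁻¹ * α (n' * α⁻¹ y * n'⁻¹) * n'⁻¹⁻¹
      rw [map_mul, map_mul, map_inv, MulAut.apply_inv_self]
      group
    have F3 := F2.inv.mul (Fα.mul (F2.mul Fα.inv))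
    rw [← hconj] at F3
    refine mem_TT_of_fr hp cs hk p hB hd' (fun x => ?_) F3
    show (repAut cs hp.isCartan w').symm ((repAut cs hp.isCartan w) (g ((repAut cs hp.isCartan w')
      (g.symm ((repAut cs hp.isCartan w).symm x))))) = x
    rw [repAut_symm_apply, repAut_symm_apply, repAut_apply, repAut_apply]
    have h1 := hcomm (g.symm (rep cs hp.isCartan w⁻¹ x))
    rw [theta_apply, theta_apply, AddEquiv.apply_symm_apply] at h1
    rw [← h1, rep_apply_inv, rep_inv_apply]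
  obtain ⟨s, hs, h1⟩ := torus_lang hp cs he hασ Fα hB hd' hcT
  have h2 : α (n' * s) = n' * s := by
    rw [map_mul]
    have e1 : α n' = n' * c := by rw [hc]; group
    rw [e1, mul_assoc, ← h1]
  have hσz : σ z = z * n := by rw [hz]; group
  refine ⟨z * (n' * s) * z⁻¹, ?_, ?_⟩
  · rw [map_mul, map_mul, map_inv, hσz]
    rw [hαn] at h2
    calc z * n * σ (n' * s) * (z * n)⁻¹ = z * (n * σ (n' * s) * n⁻¹) * z⁻¹ := by group
      _ = z * (n' * s) * z⁻¹ := by rw [h2]
  · have h3 : n' * t * n'⁻¹ = t ^ j := by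
      have hnt : n' * t * n'⁻¹ ∈ TT D k := (Subgroup.mem_normalizer_iff.1 hn'.mem_normalizer t).1 ht
      refine cX_inj hp hnt (zpow_mem ht j) fun i => ?_
      have h4 : sr i = rep cs hp.isCartan w' (rep cs hp.isCartan w'⁻¹ (sr i)) := (rep_apply_inv _ _ _ _).symm
      have hz' : cX hp (t ^ j) (sr i) = cX hp t (sr i) ^ j := by
        obtain ⟨m, rfl | rfl⟩ := Int.eq_nat_or_neg j
        · rw [zpow_natCast, zpow_natCast, cX_pow hp ht]
        · rw [zpow_neg, zpow_neg, zpow_natCast, zpow_natCast]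
          have h5 := cX_mul hp (inv_mem (pow_mem ht m)) (pow_mem ht m) (sr i)
          rw [inv_mul_cancel, cX_one, cX_pow hp ht] at h5
          exact eq_inv_of_mul_eq_one_left h5.symm
      rw [hz', h4, cX_rp hp cs hk p hn' ht]
      exact hact _
    have h4 : s * t = t * s := TT_comm hp hs ht
    calc z * (n' * s) * z⁻¹ * (z * t * z⁻¹) * (z * (n' * s) * z⁻¹)⁻¹
        = z * (n' * (s * t) * s⁻¹ * n'⁻¹) * z⁻¹ := by group
      _ = z * (n' * t * n'⁻¹) * z⁻¹ := by rw [h4]; group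
      _ = z * t ^ j * z⁻¹ := by rw [h3]
      _ = (z * t * z⁻¹) ^ j := conj_zpow.symm

/-- **Every `p'`-element of `Y^σ` is conjugate in `Y` to an element of a twisted torus.** -/
theorem exists_toral [IsAlgClosed k] [Finite W] (hA : Cfsg.Agent.BpExc.TorAll.HAlg p k) (hk : LocFin k)
    (F : Fr cs hp.isCartan (TT D k) (XX D l k) σ g) (hN : NSys M (TT D k) (nc hp k)) {x : ↥(D.group k)}
    (hx : σ x = x) {m : ℕ} (hm : m ≠ 0) (hmp : m.Coprime p) (hxm : x ^ m = 1) :
    ∃ (z₁ t n : ↥(D.group k)) (w : W), x = z₁ * t * z₁⁻¹ ∧ t ∈ TT D k ∧ Rp cs hN w n ∧ n * σ t * n⁻¹ = t := by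
  obtain ⟨y, hy⟩ := H944.TorAnyChev.exists_conj_mem_TT hp p hA hm hmp hxm
  set t := y * x * y⁻¹ with htdef
  have ht : t ∈ TT D k := hy
  have hσt : σ t ∈ TT D k := (F.tor t).2 ht
  have h1 : (y * (σ y)⁻¹) * σ t = t * (y * (σ y)⁻¹) := by
    rw [htdef, map_mul, map_mul, map_inv, hx]
    group
  have H := tow hp cs hk p
  have C := coordsL hp cs hk p
  rw [← TL_eq hp hk, ← XL_eq hp hk] at C
  have ht' : t ∈ TL (Tj hp (k := k)) := by rw [TL_eq hp hk]; exact ht
  have hσt' : σ t ∈ TL (Tj hp (k := k)) := by rw [TL_eq hp hk]; exact hσt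
  have hcG : y * (σ y)⁻¹ ∈ GG cs hp.isCartan (TL (Tj hp (k := k))) (XL (Xj hp)) := by
    rw [GG_eq_top hp cs hk]; exact Subgroup.mem_top _
  obtain ⟨m', -, w, n, hn, hnt, -⟩ := BpExc.Fr.exists_form H C hσt' ht' hcG h1
  refine ⟨y⁻¹, t, n, w, by rw [htdef]; group, ht, ?_, by rw [hnt]; group⟩
  have key : ∀ (T : Subgroup ↥(D.group k)) (h1 : NSys M T (nc hp k)) (h2 : T = TT D k), Rp cs h1 w n → Rp cs hN w n := by
    intro T h1 h2 h3
    subst h2
    exact h3
  exact key _ _ (TL_eq hp hk) hn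

end Frame

end Cfsg.Agent.H720.TorusReal
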