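import Cfsg.Agent.H720.RowsNeg
import Cfsg.Agent.H720.TwFr

/-!
# Real elements of ³D₄(q) (helper720)
-/

set_option autoImplicit false
set_option linter.unusedSectionVars false

namespace Cfsg.Agent.H720.RowTriD4

open CoxeterSystem Cfsg Cfsg.Lie Cfsg.Lie.ChevalleyDatum
open Cfsg.Agent.ChevalleyStructure Cfsg.Agent.ChevalleyStructure.Elts Cfsg.Agent.ChevalleyStructure.CoxeterGeom
  Cfsg.Agent.ChevalleyStructure.CoxeterGeomTypes Cfsg.Agent.ChevalleyStructure.NPerm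
open Cfsg.Agent.Tits.Roots Cfsg.Agent.Tits.Core Cfsg.Agent.Nodes Cfsg.Agent.Nodes.Reps Cfsg.Agent.Nodes.BNOf
  Cfsg.Agent.Nodes.RGDChev Cfsg.Agent.Nodes.Bruhat Cfsg.Agent.Nodes.SubComb Cfsg.Agent.Nodes.Coroot
open Cfsg.Agent.KFacts.RgdField Cfsg.Agent.KFacts.RgdChevCoord Cfsg.Agent.BpExc.TorCent Cfsg.Agent.BpExc.TorChev
open Cfsg.Agent.GpExc.Field Cfsg.Agent.BpExc.Tow Cfsg.Agent.BpExc.TowChev Cfsg.Agent.BpExc.Fr
  Cfsg.Agent.BpExc.LangFr Cfsg.Agent.LangThm Cfsg.Agent.BpExc Cfsg.Agent.H129.TorusChar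
  Cfsg.Agent.H720.TorusReal Cfsg.Agent.H722.RealP Cfsg.Agent.H720.RealTw Cfsg.Agent.H130.WeylCk
  Cfsg.Agent.H130.WeylTab Cfsg.Agent.H720.RowsNeg Cfsg.Agent.H720.TwFr

universe u

/-- prime powers and the algebraic closure -/
theorem exists_closure_pow {F : Type u} [Field F] [Fintype F] {q d : ℕ} (hd : d ≠ 0) (hq : IsPrimePow q)
    (hF : Fintype.card F = q ^ d) :
    ∃ (p n : ℕ) (_ : Fact p.Prime) (_ : CharP F p) (_ : CharP (AlgebraicClosure F) p), 0 < n ∧ q = p ^ n ∧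
      LocFin (AlgebraicClosure F) ∧ Cfsg.Agent.BpExc.TorAll.HAlg p (AlgebraicClosure F) := by
  obtain ⟨p, e, hpF, hpc, hpk, he, hqe, hk⟩ := Cfsg.Agent.H129.TorusUntw.exists_closure hF
  obtain ⟨p', n, hp', hn, rfl⟩ := hq
  have hp'' : p'.Prime := hp'.nat_prime
  have h1 : p = p' := by
    have h2 : p ∣ (p' ^ n) ^ d := by rw [hqe]; exact dvd_pow_self p he.ne'
    exact (Nat.prime_dvd_prime_iff_eq Fact.out hp'').1 (hpF.out.dvd_of_dvd_pow (hpF.out.dvd_of_dvd_pow h2))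
  subst h1
  exact ⟨p, n, hpF, hpc, hpk, hn, rfl, hk, Cfsg.Agent.H944.RootVals.hAlg_closure p F⟩

/-- **`³D₄(q)`, primes not dividing `q`.** -/
theorem row {K : Type u} [Field K] [Fintype K] {q : ℕ} (hq : IsPrimePow q) (hK : Fintype.card K = q ^ 3) {s : ℕ}
    (hs : s.Prime) (hsq : ¬ s ∣ q) (hsG : s ∣ Nat.card ↥(twistedD4 K q)) : HasReal s ↥(twistedD4 K q) := by
  obtain ⟨p, n, hpF, hpc, hpk, hn, rfl, hk, hA⟩ := exists_closure_pow three_ne_zero hq hK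
  have hle := tw4_le (K := K) hq hK
  have cs := coxeterD4.toCoxeterSystem
  have : Finite coxeterD4.Group := finite_W hp4 cs
  obtain ⟨w₀, hw₀⟩ := exists_neg lists_D4 cs hp4.isCartan [0, 1, 2, 3] 3 (by decide +kernel)
  have hsp : s ≠ p := fun h => hsq (by rw [h]; exact dvd_pow_self p hn.ne')
  exact hasReal_neg hp4 cs hA hk hn (isFrob_sig4 p n) (fr_sig4 hk p hp4 cs n) invC_D4 two_ne_zero
    (Cfsg.Agent.H129.TorusUntw.nsys_of_locFin hp4 cs hk p) (em4_injective (algebraMap K (AlgebraicClosure K)) hle)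
    (em4_fix _ p hle hn rfl hK) hs hsp (m := 1) odd_one (Nat.coprime_one_left s)
    (fun y hy => by rw [pow_one]; exact desc4 _ p hle hk hn rfl hK hy) hsG hw₀

end Cfsg.Agent.H720.RowTriD4
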