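import Cfsg.Agent.H720.RowSix
import Cfsg.Agent.H720.RowTriD4
import Cfsg.Agent.S1063
import Cfsg.Agent.S1066

/-!
# Real elements of E₆(q) and ²E₆(q) (helper720)
-/

set_option autoImplicit false
set_option linter.unusedSectionVars false

namespace Cfsg.Agent.H720.RowsSix

open CoxeterSystem Cfsg Cfsg.Lie Cfsg.Lie.ChevalleyDatum
open Cfsg.Agent.ChevalleyStructure Cfsg.Agent.ChevalleyStructure.Elts Cfsg.Agent.ChevalleyStructure.CoxeterGeom
  Cfsg.Agent.ChevalleyStructure.CoxeterGeomTypes Cfsg.Agent.ChevalleyStructure.NPerm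
open Cfsg.Agent.Tits.Roots Cfsg.Agent.Tits.Core Cfsg.Agent.Nodes Cfsg.Agent.Nodes.Reps Cfsg.Agent.Nodes.BNOf
  Cfsg.Agent.Nodes.RGDChev Cfsg.Agent.Nodes.Bruhat Cfsg.Agent.Nodes.SubComb Cfsg.Agent.Nodes.Coroot
open Cfsg.Agent.KFacts.RgdField Cfsg.Agent.KFacts.RgdChevCoord Cfsg.Agent.BpExc.TorCent Cfsg.Agent.BpExc.TorChev
open Cfsg.Agent.GpExc.Field Cfsg.Agent.BpExc.Tow Cfsg.Agent.BpExc.TowChev Cfsg.Agent.BpExc.Fr
  Cfsg.Agent.BpExc.LangFr Cfsg.Agent.LangThm Cfsg.Agent.BpExc Cfsg.Agent.H129.TorusChar Cfsg.Agent.H129.TorusCent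
  Cfsg.Agent.H129.TorusTw Cfsg.Agent.H129.TorusMain Cfsg.Agent.H129.TorusUntw Cfsg.Agent.H720.TorusReal
  Cfsg.Agent.H722.RealP Cfsg.Agent.H720.RealTw Cfsg.Agent.H130.WeylCk Cfsg.Agent.H130.WeylTab
  Cfsg.Agent.H720.RowsNeg Cfsg.Agent.H720.Functional Cfsg.Agent.H720.RowSix

universe u

/-- the descent for the untwisted groups -/
theorem desc_untw {D : ChevalleyDatum} {l : ℕ} {M : CoxeterMatrix (Fin l)} (hp : IsType D l M) {k : Type u} [Field k]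
    [IsAlgClosed k] {W : Type*} [Group W] (cs : CoxeterSystem M W) {p e : ℕ} [Fact p.Prime] [CharP k p]
    {F : Type u} [Field F] [Fintype F] (f : F →+* k) (hq : Fintype.card F = p ^ e) {d : ℕ} {B : Fin l → Fin l → ℤ}
    (hB : InvC D l d B) (hd : d ≠ 0) {y : ↥(D.group k)} (hy : H129.TorusUntw.phi D k p e y = y) :
    y ^ d ∈ (emb hp.inList f).range := by
  obtain ⟨x, t, ht, hyx⟩ := fix_split hp f hq hy
  have hf : H129.TorusUntw.phi D k p e t = t := by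
    have h1 := hy
    rw [hyx, map_mul, phi_emb hp f hq] at h1
    exact mul_left_cancel h1
  obtain ⟨x', hx', e'⟩ := Cfsg.Agent.H720.TwFr.pow_mul_mem (R := (emb hp.inList f).range) (t := t)
    (x := emb hp.inList f x) ⟨x, rfl⟩ (fun z hz => by
      obtain ⟨a, rfl⟩ := hz
      exact Cfsg.Agent.H130.TorEmb.norm_torus hp cs f hq ht hf a) d
  rw [hyx, e']
  exact mul_mem hx' (fix_pow hp cs f hq hB hd ht hf)

theorem prod_degs (Q : ℤ) : (degs6.map (fun i => Q ^ i - 1)).prod =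
    (Q ^ 2 - 1) * (Q ^ 5 - 1) * (Q ^ 6 - 1) * (Q ^ 8 - 1) * (Q ^ 9 - 1) * (Q ^ 12 - 1) := by
  simp only [degs6, List.map_cons, List.map_nil, List.prod_cons, List.prod_nil]
  ring

/-- **`E₆(q)`, primes not dividing `3 q`.** -/
theorem E6' {F : Type u} [Field F] [Fintype F] {q : ℕ} (hq : Fintype.card F = q) {s : ℕ} (hs : s.Prime) (hs3 : s ≠ 3)
    (hsq : ¬ s ∣ q) (hsG : s ∣ Nat.card ↥(chevE6.group F)) : HasReal s ↥(chevE6.group F) ∨
      ((orderOf (q : ZMod s) = 5 ∨ orderOf (q : ZMod s) = 9) ∧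
        ∃ x : ↥(chevE6.group F), orderOf x = s ^ (Nat.card ↥(chevE6.group F)).factorization s) := by
  have hcard := Cfsg.Agent.S1063.result hq
  obtain ⟨p, e, hpF, hpc, hpk, he, rfl, hk⟩ := exists_closure hq
  have hAk : Cfsg.Agent.BpExc.TorAll.HAlg p (AlgebraicClosure F) := Cfsg.Agent.H944.RootVals.hAlg_closure p F
  have cs := CoxeterMatrix.E₆.toCoxeterSystem
  have hp := TwFr.hp6
  have : Finite CoxeterMatrix.E₆.Group := finite_W hp cs
  have hsp : s ≠ p := fun h => hsq (by rw [h]; exact dvd_pow_self p he.ne')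
  have hq1 : 1 < p ^ e := Nat.one_lt_pow he.ne' hpF.out.one_lt
  have hcast : (((1 * ((p ^ e : ℕ) : ℤ) : ℤ)) : ZMod s) = ((p ^ e : ℕ) : ZMod s) := by
    rw [one_mul, Int.cast_natCast]
  rw [← hcast]
  refine main' hp cs hk he isFrob_phi (fr_phi hp cs) (nsys_of_locFin hp cs hk p)
    (emb_injective hp.inList (algebraMap F (AlgebraicClosure F))) (phi_emb hp _ hq) (m := 3) (by decide)
    (ε := 1) (by norm_num) (fun w => ⟨w, fun x => by rw [one_smul]; rfl⟩) (fun v => ⟨v, fun x => by rw [one_smul]; rfl⟩)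
    (fun y hy => desc_untw hp cs _ hq invC_E6 three_ne_zero hy) hAk hs hsp
    ((Nat.coprime_primes Nat.prime_three hs).2 (Ne.symm hs3)) hsG ?_
  rw [one_mul, prod_degs]
  have h1 : ∀ i : ℕ, (((p ^ e : ℕ) : ℤ)) ^ i - 1 = (((p ^ e) ^ i - 1 : ℕ) : ℤ) := by
    intro i
    rw [Nat.cast_sub (Nat.one_le_pow _ _ (by omega))]
    push_cast
    ring
  rw [h1, h1, h1, h1, h1, h1, ← Nat.cast_pow]
  have h2 : Nat.card ↥(chevE6.group F) ∣ (p ^ e) ^ 36 * (((p ^ e) ^ 2 - 1) * ((p ^ e) ^ 5 - 1) * ((p ^ e) ^ 6 - 1) *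
      ((p ^ e) ^ 8 - 1) * ((p ^ e) ^ 9 - 1) * ((p ^ e) ^ 12 - 1)) := by
    refine (Dvd.intro_left _ hcard).trans (dvd_of_eq ?_)
    ring
  exact_mod_cast h2

theorem E6 {F : Type u} [Field F] [Fintype F] {q : ℕ} (hq : Fintype.card F = q) {s : ℕ} (hs : s.Prime) (hs3 : s ≠ 3)
    (hsq : ¬ s ∣ q) (hsG : s ∣ Nat.card ↥(chevE6.group F)) : HasReal s ↥(chevE6.group F) ∨
      ∃ x : ↥(chevE6.group F), orderOf x = s ^ (Nat.card ↥(chevE6.group F)).factorization s :=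
  (E6' hq hs hs3 hsq hsG).imp id And.right

theorem ck_w0 : ∀ i : Fin 6, acn alE6 ([1, 2, 4, 0, 3, 5] : List (Fin 6)) 6 (bas 6 i) =
    (bas 6 (TwFr.rho6 i)).map (fun a => -1 * a) := by decide +kernel

/-- **`²E₆(q)`, primes not dividing `3 q`.** -/
theorem TwE6 {K : Type u} [Field K] [Fintype K] {q : ℕ} (hq : IsPrimePow q) (hK : Fintype.card K = q ^ 2) {s : ℕ}
    (hs : s.Prime) (hs3 : s ≠ 3) (hsq : ¬ s ∣ q) (hsG : s ∣ Nat.card ↥(twistedE6 K q)) :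
    HasReal s ↥(twistedE6 K q) ∨
      ∃ x : ↥(twistedE6 K q), orderOf x = s ^ (Nat.card ↥(twistedE6 K q)).factorization s := by
  have hcard := Cfsg.Agent.S1066.result hq hK
  obtain ⟨p, n, hpF, hpc, hpk, hn, rfl, hk, hA⟩ := RowTriD4.exists_closure_pow two_ne_zero hq hK
  have cs := CoxeterMatrix.E₆.toCoxeterSystem
  have hp := TwFr.hp6
  have : Finite CoxeterMatrix.E₆.Group := finite_W hp cs
  have hsp : s ≠ p := fun h => hsq (by rw [h]; exact dvd_pow_self p hn.ne')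
  have hq1 : 1 < p ^ n := Nat.one_lt_pow hn.ne' hpF.out.one_lt
  -- `-g` is in the Weyl group
  have hw0 : ∀ x, rep cs hp.isCartan (cs.wordProd [1, 2, 4, 0, 3, 5] ^ 6) x = -(TwFr.permE TwFr.rho6 x) := by
    intro x
    have h1 : ∀ x, rep cs hp.isCartan (cs.wordProd [1, 2, 4, 0, 3, 5] ^ 6) x =
        (-(TwFr.permE TwFr.rho6).toAddMonoidHom.toIntLinearMap) x := by
      refine eq_of_sr fun i => ?_
      rw [rep_word lists_E6 cs hp.isCartan _ _ i, ck_w0, toFn_smul, toFn_bas, neg_smul, one_smul]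
      show -(Pi.single (TwFr.rho6 i) 1 : Fin 6 → ℤ) = -(fun j => (sr i : Fin 6 → ℤ) (TwFr.rho6.symm j))
      congr 1
      funext j
      revert i j
      decide
    exact h1 x
  set w₀ := cs.wordProd [1, 2, 4, 0, 3, 5] ^ 6 with hw₀def
  have hth : ∀ (w : CoxeterMatrix.E₆.Group) x, theta hp cs w (TwFr.permE TwFr.rho6) x =
      (-1 : ℤ) • rep cs hp.isCartan (w * w₀) x := by
    intro w x
    rw [theta_apply, rep_mul_apply, hw0, map_neg, neg_smul, one_smul, neg_neg]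
  have hgcd : (Nat.gcd 3 (p ^ n + 1)) ∣ 3 := Nat.gcd_dvd_left _ _
  refine main hp cs hk hn (TwFr.isFrob_sig6 p n) (TwFr.fr_sig6 hk p hp cs n) (nsys_of_locFin hp cs hk p)
    (Cfsg.Agent.BpExc.FamTw.Six.em_injective (algebraMap K (AlgebraicClosure K)))
    (TwFr.em6_fix _ p hn rfl hK) (m := Nat.gcd 3 (p ^ n + 1)) ?_
    (ε := -1) (by norm_num) (fun w => ⟨w * w₀, hth w⟩) (fun v => ⟨v * w₀⁻¹, fun x => by
      rw [hth, inv_mul_cancel_right]⟩)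
    (fun y hy => TwFr.desc6 _ p hk hn rfl hK hy) hA hs hsp ?_ hsG ?_
  · exact Odd.of_dvd_nat (by decide) hgcd
  · exact Nat.Coprime.coprime_dvd_left hgcd ((Nat.coprime_primes Nat.prime_three hs).2 (Ne.symm hs3))
  · rw [prod_degs]
    set q := p ^ n with hqdef
    have h1 : ∀ i : ℕ, ((q : ℕ) : ℤ) ^ i - 1 = ((q ^ i - 1 : ℕ) : ℤ) := by
      intro i
      rw [Nat.cast_sub (Nat.one_le_pow _ _ (by omega))]
      push_cast
      ring
    have h2 : ((-1 * (q : ℤ)) ^ 2 - 1) * ((-1 * (q : ℤ)) ^ 5 - 1) * ((-1 * (q : ℤ)) ^ 6 - 1) *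
        ((-1 * (q : ℤ)) ^ 8 - 1) * ((-1 * (q : ℤ)) ^ 9 - 1) * ((-1 * (q : ℤ)) ^ 12 - 1) =
        ((q : ℤ) ^ 2 - 1) * ((q : ℤ) ^ 5 + 1) * ((q : ℤ) ^ 6 - 1) * ((q : ℤ) ^ 8 - 1) * ((q : ℤ) ^ 9 + 1) *
        ((q : ℤ) ^ 12 - 1) := by ring
    rw [h2, h1, h1, h1, h1]
    have h3 : Nat.card ↥(twistedE6 K q) ∣ q ^ 36 * ((q ^ 2 - 1) * (q ^ 5 + 1) * (q ^ 6 - 1) *
        (q ^ 8 - 1) * (q ^ 9 + 1) * (q ^ 12 - 1)) := by
      refine (Dvd.intro_left _ hcard).trans (dvd_of_eq ?_)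
      ring
    exact_mod_cast h3

end Cfsg.Agent.H720.RowsSix
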