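import Cfsg.Agent.H720.RowsNeg
import Cfsg.Agent.S2378

/-!
# Sylow subgroups of G₂(q), F₄(q), E₈(q) for primes prime to the order of the Weyl group are inverted (helper720)
-/

set_option autoImplicit false
set_option linter.unusedSectionVars false

namespace Cfsg.Agent.H720.SylInv

open CoxeterSystem Cfsg Cfsg.Lie Cfsg.Lie.ChevalleyDatum
open Cfsg.Agent.ChevalleyStructure Cfsg.Agent.ChevalleyStructure.Elts Cfsg.Agent.ChevalleyStructure.CoxeterGeom
  Cfsg.Agent.ChevalleyStructure.CoxeterGeomTypes Cfsg.Agent.ChevalleyStructure.NPerm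
open Cfsg.Agent.Tits.Roots Cfsg.Agent.Tits.Core Cfsg.Agent.Nodes Cfsg.Agent.Nodes.Reps Cfsg.Agent.Nodes.BNOf
  Cfsg.Agent.Nodes.RGDChev Cfsg.Agent.Nodes.Bruhat Cfsg.Agent.Nodes.SubComb Cfsg.Agent.Nodes.Coroot
open Cfsg.Agent.KFacts.RgdField Cfsg.Agent.KFacts.RgdChevCoord Cfsg.Agent.BpExc.TorCent Cfsg.Agent.BpExc.TorChev
open Cfsg.Agent.GpExc.Field Cfsg.Agent.BpExc.Tow Cfsg.Agent.BpExc.TowChev Cfsg.Agent.BpExc.Fr
  Cfsg.Agent.BpExc.LangFr Cfsg.Agent.LangThm Cfsg.Agent.BpExc Cfsg.Agent.H129.TorusChar Cfsg.Agent.H129.TorusCent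
  Cfsg.Agent.H129.TorusTw Cfsg.Agent.H129.TorusMain Cfsg.Agent.H129.TorusUntw Cfsg.Agent.H720.TorusReal
  Cfsg.Agent.H722.RealP Cfsg.Agent.H720.RealTw Cfsg.Agent.H130.WeylCk Cfsg.Agent.H130.WeylTab
  Cfsg.Agent.H720.RowsNeg Cfsg.Agent.H378.TorDual

universe u v

section Gen

variable {D : ChevalleyDatum} {l : ℕ} {M : CoxeterMatrix (Fin l)} (hp : IsType D l M) {k : Type u} [Field k]
  {W : Type*} [Group W] (cs : CoxeterSystem M W) {p e : ℕ} [Fact p.Prime] [CharP k p] {σ : MulAut ↥(D.group k)}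
  {g : (Fin l → ℤ) ≃+ (Fin l → ℤ)}

/-- **One inverting element for the whole twisted torus.** -/
theorem inv_fixed_all [IsAlgClosed k] [Finite W] (hk : LocFin k) (he : 0 < e) (hσ : IsFrob p e σ)
    (F : Fr cs hp.isCartan (TT D k) (XX D l k) σ g) {d' : ℕ} {B' : Fin l → Fin l → ℤ} (hB : InvC D l d' B')
    (hd' : d' ≠ 0) {hN : NSys M (TT D k) (nc hp k)} {w w' : W} {n z : ↥(D.group k)} (hn : Rp cs hN w n)
    (hz : n = z⁻¹ * σ z) (hneg : ∀ x, rep cs hp.isCartan w' x = -x) :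
    ∃ y : ↥(D.group k), σ y = y ∧ ∀ t ∈ TT D k, y * (z * t * z⁻¹) * y⁻¹ = (z * t * z⁻¹)⁻¹ := by
  obtain ⟨n', hn'⟩ := exists_rp cs hN w'
  have F1 := fr_conj hp cs hk p hn
  have F2 := fr_conj hp cs hk p hn'
  set α : MulAut ↥(D.group k) := MulAut.conj n * σ with hα
  have Fα : Fr cs hp.isCartan (TT D k) (XX D l k) α (g.trans (repAut cs hp.isCartan w)) := F1.mul F
  have hασ : IsFrob p e α := hσ.conj_mul n
  have hαn : ∀ y, α y = n * σ y * n⁻¹ := fun y => rfl
  set c := n'⁻¹ * α n' with hc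
  have hsymm : ∀ x, (repAut cs hp.isCartan w').symm x = -x := by
    intro x
    rw [repAut_symm_apply]
    have h1 := rep_inv_apply cs hp.isCartan w' (-x)
    rw [hneg, neg_neg] at h1
    exact h1
  have hcT : c ∈ TT D k := by
    have hconj : MulAut.conj c = (MulAut.conj n')⁻¹ * (α * (MulAut.conj n' * α⁻¹)) := by
      apply MulEquiv.ext
      intro y
      have e1 : (MulAut.conj n')⁻¹ = MulAut.conj n'⁻¹ := (map_inv MulAut.conj n').symm
      rw [e1]
      show n'⁻¹ * α n' * y * (n'⁻¹ * α n')⁻¹ = n'⁻¹ * α (n' * α⁻¹ y * n'⁻¹) * n'⁻¹⁻¹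
      rw [map_mul, map_mul, map_inv, MulAut.apply_inv_self]
      group
    have F3 := F2.inv.mul (Fα.mul (F2.mul Fα.inv))
    rw [← hconj] at F3
    refine mem_TT_of_fr hp cs hk p hB hd' (fun x => ?_) F3
    show (repAut cs hp.isCartan w').symm ((repAut cs hp.isCartan w) (g ((repAut cs hp.isCartan w')
      (g.symm ((repAut cs hp.isCartan w).symm x))))) = x
    have e1 : ∀ x, (repAut cs hp.isCartan w') x = -x := fun x => by rw [repAut_apply, hneg]
    rw [e1, map_neg, AddEquiv.apply_symm_apply, map_neg, AddEquiv.apply_symm_apply, hsymm, neg_neg]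
  obtain ⟨s, hs, h1⟩ := torus_lang hp cs he hασ Fα hB hd' hcT
  have h2 : α (n' * s) = n' * s := by
    rw [map_mul]
    have e1 : α n' = n' * c := by rw [hc]; group
    rw [e1, mul_assoc, ← h1]
  have hσz : σ z = z * n := by rw [hz]; group
  refine ⟨z * (n' * s) * z⁻¹, ?_, fun t ht => ?_⟩
  · rw [map_mul, map_mul, map_inv, hσz]
    rw [hαn] at h2
    calc z * n * σ (n' * s) * (z * n)⁻¹ = z * (n * σ (n' * s) * n⁻¹) * z⁻¹ := by group
      _ = z * (n' * s) * z⁻¹ := by rw [h2]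
  · have h3 : n' * t * n'⁻¹ = t⁻¹ := by
      have hnt : n' * t * n'⁻¹ ∈ TT D k := (Subgroup.mem_normalizer_iff.1 hn'.mem_normalizer t).1 ht
      refine cX_inj hp hnt (inv_mem ht) fun i => ?_
      have h4 : sr i = rep cs hp.isCartan w' (-(sr i)) := by rw [hneg, neg_neg]
      have h5 := cX_mul hp (inv_mem ht) ht (sr i)
      rw [inv_mul_cancel, cX_one] at h5
      rw [eq_inv_of_mul_eq_one_left h5.symm]
      conv_lhs => rw [h4]
      rw [cX_rp hp cs hk p hn' ht, (isMC_cX hp ht).neg]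
    have h4 : s * t = t * s := TT_comm hp hs ht
    calc z * (n' * s) * z⁻¹ * (z * t * z⁻¹) * (z * (n' * s) * z⁻¹)⁻¹
        = z * (n' * (s * t) * s⁻¹ * n'⁻¹) * z⁻¹ := by group
      _ = z * (n' * t * n'⁻¹) * z⁻¹ := by rw [h4]; group
      _ = z * t⁻¹ * z⁻¹ := by rw [h3]
      _ = (z * t * z⁻¹)⁻¹ := by group

end Gen

section Hom

variable {D : ChevalleyDatum} {l : ℕ} {M : CoxeterMatrix (Fin l)} (hp : IsType D l M)
  {W : Type*} [Group W] [Finite W] (cs : CoxeterSystem M W)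

/-- **Embedding in the finite group, with an inverting element.** -/
theorem exists_hom_inv {F : Type u} [Field F] [Fintype F] {q : ℕ} (hq : Fintype.card F = q)
    {B : Fin l → Fin l → ℤ} (hB : InvC D l 1 B) (w : W) {w₀ : W} (hneg : ∀ x, rep cs hp.isCartan w₀ x = -x)
    {A : Type v} [Group A] {m : ℕ} (hA : ∀ a : A, a ^ m = 1)
    (g : A →* Multiplicative ((Fin l → ℤ) ⧸
      LinearMap.range (rep cs hp.isCartan w - ((q : ℕ) : ℤ) • (1 : Module.End ℤ (Fin l → ℤ)))))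
    (hg : Function.Injective g) : ∃ g' : A →* ↥(D.group F), Function.Injective g' ∧
      ∃ y : ↥(D.group F), ∀ a, y * g' a * y⁻¹ = (g' a)⁻¹ := by
  obtain ⟨p, e, hpF, hpc, hpk, he, rfl, hk⟩ := exists_closure hq
  let k := AlgebraicClosure F
  let f : F →+* k := algebraMap F k
  let hN : NSys M (TT D k) (nc hp k) := nsys_of_locFin hp cs hk p
  have hFr := fr_phi (k := k) (p := p) (e := e) hp cs
  obtain ⟨n, hn⟩ := exists_rp cs hN w
  obtain ⟨z, hz⟩ := lang_all hp cs he (isFrob_phi (D := D) (k := k) (p := p) (e := e)) hFr 1 n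
  rw [map_one, one_mul] at hz
  have hdet : ((LinearMap.det (rep cs hp.isCartan w - (((p ^ e : ℕ) : ℕ) : ℤ) • (1 : Module.End ℤ (Fin l → ℤ))) : ℤ) : k)
      ≠ 0 := by
    apply Cfsg.Agent.H130.TorEmb.det_ne_zero (g := rep cs hp.isCartan w⁻¹)
    · rw [← map_mul, mul_inv_cancel, map_one]
    · rw [Nat.cast_pow, CharP.cast_eq_zero k p, zero_pow he.ne']
  obtain ⟨eq⟩ := kerOf_equiv k hdet
  let h0 : A →* ↥(D.group k) :=
    ((MulAut.conj z).toMonoidHom.comp (Cfsg.Agent.H130.TorEmb.torHom hp hB one_ne_zero)).comp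
    ((KerOf k _).subtype.comp (eq.symm.toMonoidHom.comp g))
  have h0inj : Function.Injective h0 :=
    ((MulAut.conj z).injective.comp (Cfsg.Agent.H130.TorEmb.torHom_injective hp hB one_ne_zero)).comp
      (Subtype.val_injective.comp (eq.symm.injective.comp hg))
  have hmem : ∀ a, h0 a ∈ (emb hp.inList f).range := by
    intro a
    refine Cfsg.Agent.H130.TorEmb.mem_range_of_pow hp cs f hq hB one_ne_zero (Nat.coprime_one_right m) ?_
      (by rw [← map_pow, hA a, map_one])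
    set φ : ↥(KerOf k (rep cs hp.isCartan w - (((p ^ e : ℕ) : ℕ) : ℤ) • (1 : Module.End ℤ (Fin l → ℤ)))) :=
      eq.symm (g a) with hφ
    have ht := Cfsg.Agent.H130.TorEmb.tor_mem hp hB one_ne_zero φ.1
    have hτ : n * H129.TorusUntw.phi D k p e (Cfsg.Agent.H130.TorEmb.tor hp hB one_ne_zero φ.1) * n⁻¹ =
        Cfsg.Agent.H130.TorEmb.tor hp hB one_ne_zero φ.1 := by
      rw [tau_iff hp cs hk isFrob_phi hFr hn ht]
      intro x
      rw [theta_apply, Cfsg.Agent.H130.TorEmb.cX_tor, Cfsg.Agent.H130.TorEmb.cX_tor]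
      have h1 := φ.2 x
      rw [LinearMap.sub_apply, LinearMap.smul_apply, Module.End.one_apply, ofAdd_sub, map_div, div_eq_one] at h1
      show ((φ.1 (Multiplicative.ofAdd (rep cs hp.isCartan w x)) : kˣ) : k) = _
      rw [h1, ← Units.val_pow_eq_pow_val, ← map_pow]
      congr 2
    exact conj_fixed hz hτ (Subgroup.mem_zpowers _)
  let h1 : A →* (emb hp.inList f).range := h0.codRestrict _ hmem
  have h1inj : Function.Injective h1 := fun a b hab => h0inj (congrArg Subtype.val hab)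
  let eR := MonoidHom.ofInjective (emb_injective hp.inList f)
  -- the inverting element
  obtain ⟨y, hy, hyt⟩ := inv_fixed_all hp cs hk he (isFrob_phi (D := D) (k := k) (p := p) (e := e)) hFr hB one_ne_zero
    (hN := hN) hn hz hneg
  obtain ⟨y', hy'⟩ := fix_range hp cs f hq hB one_ne_zero (fun a => ⟨a, pow_one a⟩) hy
  refine ⟨eR.symm.toMonoidHom.comp h1, eR.symm.injective.comp h1inj, y', fun a => ?_⟩
  apply emb_injective hp.inList f
  have e1 : emb hp.inList f ((eR.symm.toMonoidHom.comp h1) a) = h0 a := by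
    have h2 : eR ((eR.symm.toMonoidHom.comp h1) a) = h1 a := eR.apply_symm_apply _
    exact congrArg Subtype.val h2
  rw [map_mul, map_mul, map_inv, map_inv, e1, hy']
  exact hyt _ (Cfsg.Agent.H130.TorEmb.tor_mem hp hB one_ne_zero _)

open scoped Pointwise in
/-- **The Sylow subgroups are inverted.** -/
theorem sylow_inv {F : Type u} [Field F] [Fintype F] {q : ℕ} (hq : Fintype.card F = q)
    {B : Fin l → Fin l → ℤ} (hB : InvC D l 1 B) {w₀ : W} (hneg : ∀ x, rep cs hp.isCartan w₀ x = -x)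
    {degs : List ℕ} {Al : List (List ℤ)} (hA : MatList (cartanOf D l) Al)
    (hcert : ∀ e, (∃ i ∈ degs, e ∣ i) → Cfsg.Agent.H130.WeylTab.Has Al l degs e ∧ e ∈ Cfsg.Agent.H130.PolyL.idx)
    {r : ℕ} [Fact r.Prime] (hrq : ¬ r ∣ q) (hrW : ¬ r ∣ degs.prod) {N : ℕ}
    (hX : Nat.card ↥(D.group F) = q ^ N * (degs.map (fun i => q ^ i - 1)).prod)
    (P : Sylow r ↥(D.group F)) : ∃ y : ↥(D.group F), ∀ x ∈ (P : Subgroup ↥(D.group F)), y * x * y⁻¹ = x⁻¹ := by
  have hq1 : 1 < q := hq ▸ Fintype.one_lt_card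
  have hrp : r.Prime := Fact.out
  have : NeZero (r ^ Cfsg.Agent.H130.Homo.val r q) := ⟨pow_ne_zero _ hrp.ne_zero⟩
  have hcard : Nat.card (Fin (degs.filter (fun i => orderOf (q : ZMod r) ∣ i)).length →
      Multiplicative (ZMod (r ^ Cfsg.Agent.H130.Homo.val r q))) = r ^ (Nat.card ↥(D.group F)).factorization r := by
    rw [Cfsg.Agent.H130.ChevSyl.val_card hrq hq1 hrW (g := 1) (by rw [one_mul]; exact hX)
      (fun h => hrp.one_lt.ne' (Nat.dvd_one.1 h)), mul_comm, pow_mul, Nat.card_fun, Nat.card_fin]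
    congr 1
    exact Nat.card_zmod _
  by_cases hex : ∃ i ∈ degs, orderOf (q : ZMod r) ∣ i
  · obtain ⟨⟨word, k, c, xs, ys, hC, hc⟩, hidx⟩ := hcert _ hex
    have hrc : ¬ (r : ℤ) ∣ c := by
      intro h1
      have h2 : ((r : ℕ) : ℤ) ∣ ((degs.prod : ℕ) : ℤ) := h1.trans hc
      exact hrW (Int.natCast_dvd_natCast.1 h2)
    obtain ⟨w, f, hf⟩ := hC.exists_hom hidx hrq hq1 hrc hA cs hp.isCartan
    obtain ⟨f', hf', y, hy⟩ := exists_hom_inv hp cs hq hB w hneg (m := r ^ Cfsg.Agent.H130.Homo.val r q)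
      (Cfsg.Agent.H130.ChevSyl.pow_model _ _) f hf
    have e0 : (Fin (degs.filter (fun i => orderOf (q : ZMod r) ∣ i)).length →
      Multiplicative (ZMod (r ^ Cfsg.Agent.H130.Homo.val r q))) ≃* f'.range := MonoidHom.ofInjective hf'
    have hcard' : Nat.card f'.range = r ^ (Nat.card ↥(D.group F)).factorization r := by
      rw [← hcard]
      exact Nat.card_congr e0.toEquiv.symm
    let Q : Sylow r ↥(D.group F) := Sylow.ofCard f'.range hcard'
    obtain ⟨g, hg⟩ := MulAction.exists_smul_eq ↥(D.group F) Q P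
    subst hg
    refine ⟨g * y * g⁻¹, fun x hx => ?_⟩
    have hx' : x ∈ MulAut.conj g • (Q : Subgroup ↥(D.group F)) := hx
    rw [Subgroup.mem_pointwise_smul_iff_inv_smul_mem] at hx'
    obtain ⟨a, ha⟩ := hx'
    have h1 : g⁻¹ * x * g = f' a := by
      rw [ha, ← map_inv, MulAut.smul_def, MulAut.conj_apply, inv_inv]
    calc g * y * g⁻¹ * x * (g * y * g⁻¹)⁻¹ = g * (y * (g⁻¹ * x * g) * y⁻¹) * g⁻¹ := by group
      _ = g * (g⁻¹ * x * g)⁻¹ * g⁻¹ := by rw [h1, hy]
      _ = x⁻¹ := by group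
  · have h0 : (degs.filter (fun i => orderOf (q : ZMod r) ∣ i)).length = 0 := by
      rw [List.length_eq_zero_iff, List.filter_eq_nil_iff]
      intro i hi h1
      exact hex ⟨i, hi, of_decide_eq_true h1⟩
    rw [h0, Nat.card_fun, Nat.card_fin, pow_zero] at hcard
    refine ⟨1, fun x hx => ?_⟩
    have h1 := P.card_eq_multiplicity
    rw [← hcard, Subgroup.card_eq_one] at h1
    have hx1 : x = 1 := by
      have h2 : x ∈ (P : Subgroup ↥(D.group F)) := hx
      rw [show (P : Subgroup ↥(D.group F)) = ⊥ from h1] at h2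
      exact h2
    rw [hx1]
    simp

end Hom

/-- **`F₄(q)`** -/
theorem F4 {F : Type u} [Field F] [Fintype F] {q : ℕ} (hq : Fintype.card F = q) {r : ℕ} [Fact r.Prime]
    (hrq : ¬ r ∣ q) (hrW : ¬ r ∣ [2, 6, 8, 12].prod) (P : Sylow r ↥(chevF4.group F)) :
    ∃ y : ↥(chevF4.group F), ∀ x ∈ (P : Subgroup ↥(chevF4.group F)), y * x * y⁻¹ = x⁻¹ := by
  have hp : IsType chevF4 4 CoxeterMatrix.F₄ := by simp [IsType, typeList]
  have cs := CoxeterMatrix.F₄.toCoxeterSystem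
  have : Finite CoxeterMatrix.F₄.Group := finite_W hp cs
  obtain ⟨w₀, hw₀⟩ := exists_neg lists_F4 cs hp.isCartan [0, 1, 2, 3] 6 (by decide +kernel)
  refine sylow_inv hp cs hq invC_F4 hw₀ lists_F4 Cfsg.Agent.H130.ChevSyl.hcert_F4 hrq hrW (N := 24) ?_ P
  rw [Cfsg.Agent.S1062.result hq]
  simp only [List.map_cons, List.map_nil, List.prod_cons, List.prod_nil]
  ring

end Cfsg.Agent.H720.SylInv
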