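import Cfsg.Agent.H720.RealTw
import Cfsg.Agent.H130.TorEmb
import Cfsg.Agent.H130.WeylTab
import Cfsg.Agent.H944.RootVals

/-!
# Real elements of the exceptional groups G₂(q), F₄(q), E₈(q) (helper720)

Every prime `r` not dividing `q` and dividing the order: there is an element of order `r` inverted by a 2-element.
-/

set_option autoImplicit false
set_option linter.unusedSectionVars false

namespace Cfsg.Agent.H720.RowsNeg

open CoxeterSystem Cfsg Cfsg.Lie Cfsg.Lie.ChevalleyDatum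
open Cfsg.Agent.ChevalleyStructure Cfsg.Agent.ChevalleyStructure.Elts Cfsg.Agent.ChevalleyStructure.CoxeterGeom
  Cfsg.Agent.ChevalleyStructure.CoxeterGeomTypes Cfsg.Agent.ChevalleyStructure.NPerm
open Cfsg.Agent.Tits.Roots Cfsg.Agent.Tits.Core Cfsg.Agent.Nodes Cfsg.Agent.Nodes.Reps Cfsg.Agent.Nodes.BNOf
  Cfsg.Agent.Nodes.RGDChev Cfsg.Agent.Nodes.Bruhat Cfsg.Agent.Nodes.SubComb Cfsg.Agent.Nodes.Coroot
open Cfsg.Agent.KFacts.RgdField Cfsg.Agent.KFacts.RgdChevCoord Cfsg.Agent.BpExc.TorCent Cfsg.Agent.BpExc.TorChev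
open Cfsg.Agent.GpExc.Field Cfsg.Agent.BpExc.Tow Cfsg.Agent.BpExc.TowChev Cfsg.Agent.BpExc.Fr
  Cfsg.Agent.BpExc.LangFr Cfsg.Agent.LangThm Cfsg.Agent.BpExc Cfsg.Agent.H129.TorusChar Cfsg.Agent.H129.TorusCent
  Cfsg.Agent.H129.TorusTw Cfsg.Agent.H129.TorusMain Cfsg.Agent.H129.TorusUntw Cfsg.Agent.H720.TorusReal
  Cfsg.Agent.H722.RealP Cfsg.Agent.H720.RealTw Cfsg.Agent.H130.WeylCk Cfsg.Agent.H130.WeylTab

universe u

/-- equality of linear maps on the basis -/
theorem eq_of_sr {l : ℕ} {f g : (Fin l → ℤ) →ₗ[ℤ] (Fin l → ℤ)} (h : ∀ i, f (sr i) = g (sr i)) (x : Fin l → ℤ) :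
    f x = g x := by
  rw [IsMC.eq_sum_sr x, map_sum, map_sum]
  refine Finset.sum_congr rfl fun i _ => ?_
  rw [map_zsmul, map_zsmul, h i]

/-- a word acting as given on the basis -/
theorem rep_word {l : ℕ} {A : Fin l → Fin l → ℤ} {Al : List (List ℤ)} (hA : MatList A Al) {M : CoxeterMatrix (Fin l)}
    {W : Type*} [Group W] (cs : CoxeterSystem M W) (h : IsCartan M A) (L : List (Fin l)) (n : ℕ) (i : Fin l) :
    rep cs h (cs.wordProd L ^ n) (sr i) = toFn l (acn Al L n (bas l i)) := by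
  rw [toFn_acn cs h hA L n _ (length_bas i.1), toFn_bas, map_pow]
  rfl

/-- `-1` in the Weyl group -/
theorem exists_neg {l : ℕ} {A : Fin l → Fin l → ℤ} {Al : List (List ℤ)} (hA : MatList A Al) {M : CoxeterMatrix (Fin l)}
    {W : Type*} [Group W] (cs : CoxeterSystem M W) (h : IsCartan M A) (L : List (Fin l)) (n : ℕ)
    (hck : ∀ i : Fin l, acn Al L n (bas l i) = (bas l i).map (fun a => -1 * a)) :
    ∃ w : W, ∀ x, rep cs h w x = -x := by
  refine ⟨cs.wordProd L ^ n, fun x => ?_⟩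
  have h1 := eq_of_sr (f := rep cs h (cs.wordProd L ^ n)) (g := -LinearMap.id) (fun i => ?_) x
  · exact h1
  · rw [rep_word hA cs h L n i, hck i, toFn_smul, toFn_bas, neg_smul, one_smul]
    rfl

/-- **Untwisted types with `-1` in the Weyl group and unimodular Cartan matrix.** -/
theorem untw_neg {D : ChevalleyDatum} {l : ℕ} {M : CoxeterMatrix (Fin l)} (hp : IsType D l M)
    {F : Type u} [Field F] [Fintype F] {q : ℕ} (hq : Fintype.card F = q)
    {B' : Fin l → Fin l → ℤ} (hB : InvC D l 1 B') {Al : List (List ℤ)} (hA : MatList (cartanOf D l) Al)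
    (L : List (Fin l)) (n : ℕ) (hck : ∀ i : Fin l, acn Al L n (bas l i) = (bas l i).map (fun a => -1 * a))
    {r : ℕ} (hr : r.Prime) (hrq : ¬ r ∣ q) (hrG : r ∣ Nat.card ↥(D.group F)) : HasReal r ↥(D.group F) := by
  obtain ⟨p, e, hpF, hpc, hpk, he, rfl, hk⟩ := exists_closure hq
  have hAk : Cfsg.Agent.BpExc.TorAll.HAlg p (AlgebraicClosure F) := Cfsg.Agent.H944.RootVals.hAlg_closure p F
  have cs := M.toCoxeterSystem
  have : Finite M.Group := finite_W hp cs
  obtain ⟨w₀, hw₀⟩ := exists_neg hA cs hp.isCartan L n hck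
  have hrp : r ≠ p := fun h => hrq (by rw [h]; exact dvd_pow_self p he.ne')
  refine hasReal_neg hp cs hAk hk he isFrob_phi (fr_phi hp cs) hB one_ne_zero (nsys_of_locFin hp cs hk p)
    (emb_injective hp.inList (algebraMap F (AlgebraicClosure F))) (phi_emb hp _ hq) hr hrp (m := 1)
    odd_one (Nat.coprime_one_left r) (fun y hy => ?_) hrG hw₀
  rw [pow_one]
  exact fix_range hp cs _ hq hB one_ne_zero (fun a => ⟨a, pow_one a⟩) hy

theorem G2 {F : Type u} [Field F] [Fintype F] {q : ℕ} (hq : Fintype.card F = q) {r : ℕ} (hr : r.Prime)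
    (hrq : ¬ r ∣ q) (hrG : r ∣ Nat.card ↥(chevG2.group F)) : HasReal r ↥(chevG2.group F) :=
  untw_neg (l := 2) (M := CoxeterMatrix.G₂) (by simp [IsType, typeList]) hq invC_G2 lists_G2 [0, 1] 3
    (by decide +kernel) hr hrq hrG

theorem F4 {F : Type u} [Field F] [Fintype F] {q : ℕ} (hq : Fintype.card F = q) {r : ℕ} (hr : r.Prime)
    (hrq : ¬ r ∣ q) (hrG : r ∣ Nat.card ↥(chevF4.group F)) : HasReal r ↥(chevF4.group F) :=
  untw_neg (l := 4) (M := CoxeterMatrix.F₄) (by simp [IsType, typeList]) hq invC_F4 lists_F4 [0, 1, 2, 3] 6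
    (by decide +kernel) hr hrq hrG

theorem E8 {F : Type u} [Field F] [Fintype F] {q : ℕ} (hq : Fintype.card F = q) {r : ℕ} (hr : r.Prime)
    (hrq : ¬ r ∣ q) (hrG : r ∣ Nat.card ↥(chevE8.group F)) : HasReal r ↥(chevE8.group F) :=
  untw_neg (l := 8) (M := CoxeterMatrix.E₈) (by simp [IsType, typeList]) hq invC_E8 lists_E8 [0, 1, 2, 3, 4, 5, 6, 7] 15
    (by decide +kernel) hr hrq hrG

end Cfsg.Agent.H720.RowsNeg
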