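import Cfsg.Agent.H722.RealP
import Cfsg.Agent.H720.TwFr
import Cfsg.Agent.ChevalleyStructure.E6Fixed
import Cfsg.Agent.ChevalleyStructure.D4Twisted
import Cfsg.Agent.S1032

/-!
# Real elements of order `p` in the exceptional groups of characteristic `p` (helper720)

`h_r(-1)` inverts `x_s(1)` if the Cartan integer is odd.
-/

set_option autoImplicit false

namespace Cfsg.Agent.H720.DefChar

open Cfsg Cfsg.Lie Cfsg.Lie.ChevalleyDatum
open Cfsg.Agent.ChevalleyStructure Cfsg.Agent.ChevalleyStructure.Elts Cfsg.Agent.H722.RealP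

universe u

/-- `h_i(-1)` on `x_s(a)`, odd Cartan integer -/
theorem hG_neg_conj {D : ChevalleyDatum} {F : Type u} [Field F] (hD : InList D) {i s : ℕ} (hi : i < D.rank)
    (hs : s < D.nroots) (ho : Odd (D.cartan i s)) (a : F) :
    hG hD (D.simple i) (-1) * xG hD s a * (hG hD (D.simple i) (-1))⁻¹ = (xG hD s a)⁻¹ := by
  have h1 : hG hD (D.simple i) (-1) * xG hD s a = xG hD s ((-1) ^ D.cartan i s * a) * hG hD (D.simple i) (-1) :=
    Units.ext (Cfsg.Agent.S1032.result (F := F) D hD i s hi hs (-1) (by simp) a)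
  rw [h1, mul_inv_cancel_right, xG_inv, ho.neg_one_zpow, neg_one_mul]

theorem xG_pow {D : ChevalleyDatum} {F : Type u} [Field F] (hD : InList D) (r : ℕ) (a : F) (n : ℕ) :
    xG hD r a ^ n = xG hD r (n * a) := by
  induction n with
  | zero => rw [pow_zero, Nat.cast_zero, zero_mul, xG_zero]
  | succ n ih => rw [pow_succ, ih, xG_add, Nat.cast_succ, add_mul, one_mul]

theorem orderOf_xG {D : ChevalleyDatum} {F : Type u} [Field F] (hD : InList D) {p : ℕ} [Fact p.Prime] [CharP F p]
    {s : ℕ} (hs : s < D.nroots) : orderOf (xG (F := F) hD s 1) = p := by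
  refine orderOf_eq_prime ?_ fun h => ?_
  · rw [xG_pow, CharP.cast_eq_zero, zero_mul, xG_zero]
  · exact one_ne_zero ((xG_eq_one_iff hD hs _).1 h)

/-- the general form -/
theorem hasReal_sub {D : ChevalleyDatum} {F : Type u} [Field F] (hD : InList D) {p : ℕ} [Fact p.Prime] [CharP F p]
    {T : Subgroup (GL D.Idx F)} [Finite ↥T] {s : ℕ} (hs : s < D.nroots) (hx : xG (F := F) hD s 1 ∈ T)
    {h : GL D.Idx F} (hh : h ∈ T) (e : h * xG (F := F) hD s 1 * h⁻¹ = (xG hD s 1)⁻¹) : HasReal p ↥T := by
  refine hasReal_of_isConj (x := ⟨xG (F := F) hD s 1, hx⟩) ?_ (isConj_iff.2 ⟨⟨h, hh⟩, Subtype.ext e⟩)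
  rw [← orderOf_xG (F := F) hD (p := p) hs, Subgroup.orderOf_mk]

/-- **untwisted groups in their own characteristic** -/
theorem untw {D : ChevalleyDatum} {F : Type u} [Field F] [Finite F] (hD : InList D) {p : ℕ} [Fact p.Prime] [CharP F p]
    {i s : ℕ} (hi : i < D.rank) (hs : s < D.nroots) (ho : Odd (D.cartan i s)) : HasReal p ↥(D.group F) :=
  hasReal_sub hD hs (xG_mem_group hD _ _) (hG_mem_group hD _ _) (hG_neg_conj hD hi hs ho 1)

theorem G2 {F : Type u} [Field F] [Finite F] {p : ℕ} [Fact p.Prime] [CharP F p] : HasReal p ↥(chevG2.group F) :=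
  untw (by simp) (i := 0) (s := chevG2.simple 1) (by decide) (by decide) (by decide)

theorem F4 {F : Type u} [Field F] [Finite F] {p : ℕ} [Fact p.Prime] [CharP F p] : HasReal p ↥(chevF4.group F) :=
  untw (by simp) (i := 0) (s := chevF4.simple 1) (by decide) (by decide +kernel) (by decide +kernel)

theorem E6 {F : Type u} [Field F] [Finite F] {p : ℕ} [Fact p.Prime] [CharP F p] : HasReal p ↥(chevE6.group F) :=
  untw (by simp) (i := 0) (s := chevE6.simple 2) (by decide) (by decide +kernel) (by decide +kernel)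

theorem E7 {F : Type u} [Field F] [Finite F] {p : ℕ} [Fact p.Prime] [CharP F p] : HasReal p ↥(chevE7.group F) :=
  untw (by simp) (i := 0) (s := chevE7.simple 2) (by decide) (by decide +kernel) (by decide +kernel)

theorem E8 {F : Type u} [Field F] [Finite F] {p : ℕ} [Fact p.Prime] [CharP F p] : HasReal p ↥(chevE8.group F) :=
  untw (by simp) (i := 0) (s := chevE8.simple 2) (by decide) (by decide +kernel) (by decide +kernel)

/-- **`²E₆(q)` in its own characteristic** -/
theorem TwE6 {K : Type u} [Field K] [Finite K] {q : ℕ} {φ : K →+* K} (hφ : ∀ x, φ x = x ^ q) {p : ℕ} [Fact p.Prime]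
    [CharP K p] : HasReal p ↥(twistedE6 K q) := by
  have hs : chevE6.simple 1 = 46 := by decide +kernel
  refine hasReal_sub (D := chevE6) E6Fixed.hE6 (s := 39) (by decide +kernel) ?_
    (h := hG E6Fixed.hE6 (chevE6.simple 1) (-1)) ?_ (hG_neg_conj E6Fixed.hE6 (by decide) (by decide +kernel)
      (by decide +kernel) 1)
  · exact E6Fixed.x_mem (by decide) (by rw [one_pow])
  · rw [hs]
    exact E6Fixed.h_single_mem hφ (by decide) (by decide +kernel) (by rw [map_neg, map_one])

/-- **`³D₄(q)` in its own characteristic** -/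
theorem TwD4 {K : Type u} [Field K] [Finite K] {q : ℕ} {φ : K →+* K} (hφ : ∀ x, φ x = x ^ q) {p : ℕ} [Fact p.Prime]
    [CharP K p] : HasReal p ↥(twistedD4 K q) := by
  have hD : InList chevD4 := by simp
  have h14 : (14 : ℕ) < chevD4.nroots := by decide +kernel
  have ex : Cfsg.Agent.ChevalleyStructure.D4Comm.xG (F := K) 14 1 = xG hD 14 1 := Units.ext rfl
  refine hasReal_sub (D := chevD4) hD (s := 14) h14 ?_ (h := D4Twisted.hb φ (-1)) (D4Twisted.hb_mem hφ _) ?_
  · rw [← ex]
    exact D4U.xG14_mem hφ (map_one φ)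
  · have hR : ∀ i < 4, D4NConj.hR (D4NCheck.sp i) (-1 : K) = hG hD (chevD4.simple i) (-1) := by
      intro i hi
      apply Units.ext
      rw [D4NConj.coe_hR (by interval_cases i <;> decide +kernel), D4NConj.simple_eq hi, coe_hG]
    have e : D4Twisted.hb φ (-1) = hG hD (chevD4.simple 0) (-1 : K) * hG hD (chevD4.simple 2) (-1) *
        hG hD (chevD4.simple 3) (-1) := by
      rw [← hR 0 (by norm_num), ← hR 2 (by norm_num), ← hR 3 (by norm_num)]
      show D4NConj.hR 18 (-1) * D4NConj.hR 13 (φ (-1)) * D4NConj.hR 12 (φ (φ (-1))) = _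
      rw [map_neg, map_one, map_neg, map_one]
      rfl
    rw [e]
    have h0 := hG_neg_conj (F := K) hD (i := 0) (s := 14) (by decide) h14 (by decide +kernel) 1
    have h2 := hG_neg_conj (F := K) hD (i := 2) (s := 14) (by decide) h14 (by decide +kernel) 1
    have h3 := hG_neg_conj (F := K) hD (i := 3) (s := 14) (by decide) h14 (by decide +kernel) 1
    set a := hG hD (chevD4.simple 0) (-1 : K)
    set b := hG hD (chevD4.simple 2) (-1 : K)
    set c := hG hD (chevD4.simple 3) (-1 : K)
    set x := xG (F := K) hD 14 1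
    have e1 : a * b * c * x * (a * b * c)⁻¹ = a * (b * (c * x * c⁻¹) * b⁻¹) * a⁻¹ := by group
    have e2 : b * x⁻¹ * b⁻¹ = x := by
      have := congrArg (·⁻¹) h2
      simp only [mul_inv_rev, inv_inv] at this
      rw [← mul_assoc] at this
      exact this
    rw [e1, h3, e2, h0]

end Cfsg.Agent.H720.DefChar
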