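import Cfsg.Agent.H720.RowsSix
import Cfsg.Agent.H720.RowDef
import Cfsg.Agent.H65.UnivE
import Cfsg.Agent.S2378
import Cfsg.Agent.S1077
import Cfsg.Agent.S1079
import Cfsg.Agent.S1054
import Cfsg.Agent.S1064

/-!
# The row of E₇(q) (helper720)

`E₆(q)` is a section of `E₇(q)`; the primes dividing `qᵈ - 1`, `d = 5, 7, 8, 9, 10, 12, 14, 18`, have cyclic Sylow
subgroups.
-/

set_option autoImplicit false

namespace Cfsg.Agent.H720.RowSeven

open Cfsg Cfsg.Lie Cfsg.Lie.ChevalleyDatum
open Cfsg.Agent.ChevalleyStructure Cfsg.Agent.ChevalleyStructure.Elts Cfsg.Agent.ChevalleyStructure.StEmbed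
  Cfsg.Agent.H722.RealP Cfsg.Agent.H720.RowDef

universe u

/-- **`E₆(F)` is a section of `E₇(F)`** -/
theorem involves67 (F : Type u) [Field F] :
    Cfsg.Agent.Lib.Involves.Involves ↥(chevE7.group F) ↥(chevE6.group F) := by
  obtain ⟨θ6, hs6, hk6, he6⟩ := Cfsg.Agent.S1077.result (K := F) chevE6 (by simp)
  obtain ⟨θ7, hs7, hk7, he7⟩ := Cfsg.Agent.S1077.result (K := F) chevE7 (by simp)
  have hsimp := (Cfsg.Agent.S1054.result (F := F) chevE6 (by simp)).1
  have hperf := Cfsg.Agent.H65.UnivE.Typ.perfect Cfsg.Agent.H65.UnivE.typE6 F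
  set f : chevE6.SteinbergGroup F →* ↥(chevE7.group F) := θ7.comp (hom emb67 F) with hf
  refine Cfsg.Agent.Lib.Involves.of_ker_le f θ6 hs6 ?_
  have hn : (f.ker.map θ6).Normal := Subgroup.Normal.map inferInstance θ6 hs6
  rcases hn.eq_bot_or_eq_top with h | h
  · intro x hx
    have h1 : θ6 x ∈ f.ker.map θ6 := ⟨x, hx, rfl⟩
    rw [h] at h1
    exact h1
  · exfalso
    -- the image of `f` is commutative
    have hc : ∀ x y : chevE6.SteinbergGroup F, f x * f y = f y * f x := by
      intro x y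
      have h1 : θ6 x ∈ f.ker.map θ6 := by rw [h]; exact Subgroup.mem_top _
      obtain ⟨n, hn, e⟩ := h1
      have h2 : n⁻¹ * x ∈ θ6.ker := by rw [MonoidHom.mem_ker, map_mul, map_inv, e, inv_mul_cancel]
      rw [hk6, Subgroup.mem_center_iff] at h2
      have h3 := congrArg f (h2 y)
      have h4 : f n = 1 := hn
      simp only [map_mul, map_inv, h4, inv_one, one_mul] at h3
      exact h3.symm
    have h1 : commutator (chevE6.SteinbergGroup F) ≤ f.ker := by
      rw [commutator_def, Subgroup.commutator_le]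
      intro x _ y _
      rw [MonoidHom.mem_ker, map_commutatorElement, commutatorElement_eq_one_iff_mul_comm]
      exact hc x y
    rw [hperf] at h1
    have h0 : (0 : ℕ) < chevE6.nroots := by decide +kernel
    have h7 : ι67 0 < chevE7.nroots := by decide +kernel
    have h2 : f (chevE6.stGen F 0 1) = 1 := h1 (Subgroup.mem_top _)
    rw [hf, MonoidHom.comp_apply, hom_stGen emb67 h0] at h2
    have h3 := he7 (ι67 0) 1 h7
    rw [h2] at h3
    have hD : InList chevE7 := by simp
    have h4 : xG (F := F) hD (ι67 0) 1 = 1 := Units.ext h3.symm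
    exact one_ne_zero ((xG_eq_one_iff hD h7 _).1 h4)

theorem small_prime {s : ℕ} (hs : s.Prime) (hs2 : s ≠ 2) (hs3 : s ≠ 3) (h : s < 11) : s = 5 ∨ s = 7 := by
  interval_cases s <;> first | omega | (exfalso; revert hs; decide)

/-- **`E₇(q)`, primes not dividing `3 q`.** -/
theorem row {F : Type u} [Field F] [Fintype F] {q : ℕ} (hq : Fintype.card F = q) {s : ℕ} (hs : s.Prime) (hs2 : s ≠ 2)
    (hs3 : s ≠ 3) (hsq : ¬ s ∣ q) (hsG : s ∣ Nat.card ↥(chevE7.group F)) : Row s ↥(chevE7.group F) := by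
  have hsf : Fact s.Prime := ⟨hs⟩
  have hq0 : 0 < q := by rw [← hq]; exact Fintype.card_pos
  set d := orderOf (q : ZMod s) with hd
  have hdvd : ∀ i : ℕ, s ∣ q ^ i - 1 ↔ d ∣ i := by
    intro i
    rw [hd, orderOf_dvd_iff_pow_eq_one, ← ZMod.natCast_eq_zero_iff, Nat.cast_sub (Nat.one_le_pow _ _ hq0),
      Nat.cast_pow, Nat.cast_one, sub_eq_zero]
  have hu : IsUnit (q : ZMod s) := by
    rw [ZMod.isUnit_iff_coprime, Nat.coprime_comm]
    exact (Nat.Prime.coprime_iff_not_dvd hs).2 hsq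
  have hd0 : 0 < d := by
    obtain ⟨u, hu⟩ := hu
    rw [hd, ← hu, orderOf_units]
    exact orderOf_pos u
  have hds : d ∣ s - 1 := by
    rw [← hdvd]
    have h1 : (q : ZMod s) ^ (s - 1) = 1 := ZMod.pow_card_sub_one_eq_one (by
      rw [Ne, ZMod.natCast_eq_zero_iff]; exact hsq)
    rw [← ZMod.natCast_eq_zero_iff, Nat.cast_sub (Nat.one_le_pow _ _ hq0), Nat.cast_pow, h1, Nat.cast_one, sub_self]
  have hcard := Cfsg.Agent.S1064.result hq
  have hmem : d ∣ 2 ∨ d ∣ 6 ∨ d ∣ 8 ∨ d ∣ 10 ∨ d ∣ 12 ∨ d ∣ 14 ∨ d ∣ 18 := by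
    have h1 : s ∣ q ^ 63 * (q ^ 2 - 1) * (q ^ 6 - 1) * (q ^ 8 - 1) * (q ^ 10 - 1) * (q ^ 12 - 1) * (q ^ 14 - 1) *
        (q ^ 18 - 1) := by rw [← hcard]; exact hsG.mul_left _
    simp only [hs.dvd_mul] at h1
    rcases h1 with (((((((h | h) | h) | h) | h) | h) | h) | h)
    · exact absurd (hs.dvd_of_dvd_pow h) hsq
    all_goals (rw [hdvd] at h; tauto)
  by_cases hsmall : d = 1 ∨ d = 2 ∨ d = 3 ∨ d = 4 ∨ d = 6
  · -- a real element of `E₆(q)`
    left
    have h6 : s ∣ Nat.card ↥(chevE6.group F) := by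
      have hc6 := Cfsg.Agent.S1063.result hq
      have h1 : s ∣ Nat.gcd 3 (q - 1) * Nat.card ↥(chevE6.group F) := by
        rw [hc6]
        have h2 : s ∣ q ^ 12 - 1 := by
          rw [hdvd]
          rcases hsmall with h | h | h | h | h <;> rw [h] <;> decide
        exact h2.mul_left _
      rcases hs.dvd_mul.1 h1 with h2 | h2
      · have h3 := (Nat.prime_dvd_prime_iff_eq hs Nat.prime_three).1 (h2.trans (Nat.gcd_dvd_left _ _))
        exact absurd h3 hs3
      · exact h2
    rcases RowsSix.E6' hq hs hs3 hsq h6 with h | ⟨h, -⟩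
    · exact h.of_involves hs2 (involves67 F)
    · rw [← hd] at h
      omega
  · right; left
    have hd5 : d = 5 ∨ d = 7 ∨ d = 8 ∨ d = 9 ∨ d = 10 ∨ d = 12 ∨ d = 14 ∨ d = 18 := by
      have hle : d ≤ 18 := by
        rcases hmem with h | h | h | h | h | h | h <;> exact (Nat.le_of_dvd (by norm_num) h).trans (by norm_num)
      clear_value d
      interval_cases d <;> first | omega | (exfalso; revert hmem; decide)
    intro P
    have hs7 : 11 ≤ s := by
      obtain ⟨m, hm⟩ := hds
      have h1 := hs.two_le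
      have hodd : s % 2 = 1 := (hs.eq_two_or_odd).resolve_left hs2
      have hm0 : m ≠ 0 := by rintro rfl; omega
      by_contra hlt
      push Not at hlt
      have hs5 : s = 5 ∨ s = 7 := small_prime hs hs2 hs3 hlt
      rcases hs5 with h | h <;> rw [h] at hm
      all_goals (rcases hd5 with h | h | h | h | h | h | h | h <;> rw [h] at hm <;> omega)
    obtain ⟨e⟩ := Cfsg.Agent.S2378.result hq (chevE7, [2, 6, 8, 10, 12, 14, 18]) (by simp) s hsq (by
      intro h
      have h1 : s ∣ 2 ^ 10 * 3 ^ 4 * 5 * 7 := h.trans (by decide +kernel)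
      simp only [hs.dvd_mul] at h1
      rcases h1 with ((h1 | h1) | h1) | h1
      · have := Nat.le_of_dvd (by norm_num) (hs.dvd_of_dvd_pow h1); omega
      · have := Nat.le_of_dvd (by norm_num) (hs.dvd_of_dvd_pow h1); omega
      · have := Nat.le_of_dvd (by norm_num) h1; omega
      · have := Nat.le_of_dvd (by norm_num) h1; omega) hsG P
    have hlen : (List.filter (fun e => decide (orderOf (q : ZMod s) ∣ e)) [2, 6, 8, 10, 12, 14, 18]).length = 1 := by
      rw [← hd]
      rcases hd5 with h | h | h | h | h | h | h | h <;> rw [h] <;> decide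
    have e' : ↥(P : Subgroup ↥(chevE7.group F)) ≃* (Fin 1 →
        Multiplicative (ZMod (s ^ padicValNat s ((Polynomial.cyclotomic (orderOf (q : ZMod s)) ℤ).eval (q : ℤ)).natAbs))) := by
      rw [← hlen]
      exact e
    exact isCyclic_of_surjective ((MulEquiv.piUnique _).symm.trans e'.symm)
      ((MulEquiv.piUnique _).symm.trans e'.symm).surjective

end Cfsg.Agent.H720.RowSeven
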