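import Cfsg.Agent.H720.TorusReal
import Cfsg.Agent.H722.RealP

/-!
# Real elements of prime order in the groups of fixed points (helper720)

`G0` embedded in `Y = D.group k` by `e0` with image fixed by the Frobenius frame automorphism `σ`; `m` odd with
`y ^ m ∈ G0` for every `y ∈ Y^σ`. `r` a prime different from the characteristic, prime to `m`.

* `hasReal_of_twist` : from an element `t` of the torus of order `r`;
* `hasReal_neg` : if `-1` is in the Weyl group, `G0` has a real element of order `r`;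
* `hasReal_even` : if the twists are `±v`, `v ∈ W`, and `(±q) ^ i ≡ -1` modulo `r`;
* `hasReal_expl` : from explicit data.
-/

set_option autoImplicit false
set_option linter.unusedSectionVars false

namespace Cfsg.Agent.H720.RealTw

open CoxeterSystem Cfsg Cfsg.Lie Cfsg.Lie.ChevalleyDatum
open Cfsg.Agent.ChevalleyStructure Cfsg.Agent.ChevalleyStructure.Elts Cfsg.Agent.ChevalleyStructure.CoxeterGeom
  Cfsg.Agent.ChevalleyStructure.CoxeterGeomTypes Cfsg.Agent.ChevalleyStructure.NPerm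
open Cfsg.Agent.Tits.Roots Cfsg.Agent.Tits.Core Cfsg.Agent.Nodes Cfsg.Agent.Nodes.Reps Cfsg.Agent.Nodes.BNOf
  Cfsg.Agent.Nodes.RGDChev Cfsg.Agent.Nodes.Bruhat Cfsg.Agent.Nodes.SubComb Cfsg.Agent.Nodes.Coroot
open Cfsg.Agent.KFacts.RgdField Cfsg.Agent.KFacts.RgdChevCoord Cfsg.Agent.BpExc.TorCent Cfsg.Agent.BpExc.TorChev
open Cfsg.Agent.GpExc.Field Cfsg.Agent.BpExc.Tow Cfsg.Agent.BpExc.TowChev Cfsg.Agent.BpExc.Fr
  Cfsg.Agent.BpExc.LangFr Cfsg.Agent.LangThm Cfsg.Agent.BpExc Cfsg.Agent.H129.TorusChar Cfsg.Agent.H129.TorusCent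
  Cfsg.Agent.H129.TorusTw Cfsg.Agent.H129.TorusMain Cfsg.Agent.H720.TorusReal Cfsg.Agent.H722.RealP

universe u

variable {D : ChevalleyDatum} {l : ℕ} {M : CoxeterMatrix (Fin l)} (hp : IsType D l M) {k : Type u} [Field k]
  {W : Type*} [Group W] (cs : CoxeterSystem M W) {p e : ℕ} [Fact p.Prime] [CharP k p] {σ : MulAut ↥(D.group k)}
  {g : (Fin l → ℤ) ≃+ (Fin l → ℤ)}

/-- an element of order `r` all of whose odd powers... -/
theorem mem_range_of_order {G0 Y : Type*} [Group G0] [Group Y] {e0 : G0 →* Y} {m r : ℕ} (hmr : m.Coprime r) {x : Y}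
    (hx : x ^ r = 1) (hxm : x ^ m ∈ e0.range) : x ∈ e0.range := by
  have hbez := Nat.gcd_eq_gcd_ab m r
  rw [hmr.gcd_eq_one] at hbez
  have h1 : x = (x ^ m) ^ (m.gcdA r) * (x ^ r) ^ (m.gcdB r) := by
    rw [← zpow_natCast, ← zpow_natCast, ← zpow_mul, ← zpow_mul, ← zpow_add, ← hbez]
    simp
  rw [h1, hx, one_zpow, mul_one]
  exact zpow_mem hxm _

/-- odd powers of an inverting element are inverting -/
theorem conj_odd {Y : Type*} [Group Y] {x y : Y} (h : y * x * y⁻¹ = x⁻¹) {m : ℕ} (hm : Odd m) :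
    y ^ m * x * (y ^ m)⁻¹ = x⁻¹ := by
  have h2 : y * x⁻¹ * y⁻¹ = x := by
    have := congrArg (fun z => z⁻¹) h
    simp only [mul_inv_rev, inv_inv] at this
    rw [← mul_assoc] at this
    exact this
  obtain ⟨n, rfl⟩ := hm
  induction n with
  | zero => simpa using h
  | succ n ih =>
    have e : y ^ (2 * (n + 1) + 1) = y * (y * y ^ (2 * n + 1)) := by
      rw [← pow_succ', ← pow_succ']
      rfl
    rw [e]
    calc y * (y * y ^ (2 * n + 1)) * x * (y * (y * y ^ (2 * n + 1)))⁻¹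
        = y * (y * (y ^ (2 * n + 1) * x * (y ^ (2 * n + 1))⁻¹) * y⁻¹) * y⁻¹ := by group
      _ = x⁻¹ := by rw [ih, h2, h]

/-- **From a torus element of order `r`.** -/
theorem hasReal_of_twist [IsAlgClosed k] [Finite W] (hk : LocFin k) (he : 0 < e) (hσ : IsFrob p e σ)
    (F : Fr cs hp.isCartan (TT D k) (XX D l k) σ g) {d' : ℕ} {B' : Fin l → Fin l → ℤ} (hB : InvC D l d' B')
    (hd' : d' ≠ 0) (hN : NSys M (TT D k) (nc hp k)) {G0 : Type*} [Group G0] [Finite G0] {e0 : G0 →* ↥(D.group k)}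
    (he0 : Function.Injective e0) {m r : ℕ} (hm : Odd m) (hmr : m.Coprime r)
    (hdesc : ∀ y : ↥(D.group k), σ y = y → y ^ m ∈ e0.range) {w w' : W} {t : ↥(D.group k)}
    (ht : t ∈ TT D k) (htr : orderOf t = r)
    (hτ : ∀ x, cX hp t (theta hp cs w g x) = cX hp t x ^ p ^ e)
    (hcomm : ∀ x, rep cs hp.isCartan w' (theta hp cs w g x) = theta hp cs w g (rep cs hp.isCartan w' x))
    (hact : ∀ x, cX hp t (rep cs hp.isCartan w' x) = (cX hp t x)⁻¹) : HasReal r G0 := by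
  obtain ⟨n, hn⟩ := exists_rp cs hN w
  obtain ⟨z, hz⟩ := lang_all hp cs he hσ F 1 n
  rw [map_one, one_mul] at hz
  have hfix : σ (z * t * z⁻¹) = z * t * z⁻¹ := by
    have h1 : n * σ t * n⁻¹ = t := (tau_iff hp cs hk hσ F hn ht).2 hτ
    have h2 : σ z = z * n := by rw [hz]; group
    rw [map_mul, map_mul, map_inv, h2]
    calc z * n * σ t * (z * n)⁻¹ = z * (n * σ t * n⁻¹) * z⁻¹ := by group
      _ = z * t * z⁻¹ := by rw [h1]
  obtain ⟨y, hy, hyx⟩ := real_fixed hp cs hk he hσ F hB hd' hn ht hz hcomm (j := -1) (fun x => by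
    rw [hact, zpow_neg, zpow_one, inv_inv])
  rw [zpow_neg, zpow_one] at hyx
  have hord : orderOf (z * t * z⁻¹) = r := by
    rw [← htr]
    have h3 : z * t * z⁻¹ = MulAut.conj z t := rfl
    rw [h3]
    exact orderOf_injective (MulAut.conj z).toMonoidHom (MulAut.conj z).injective t
  obtain ⟨x0, hx0⟩ := mem_range_of_order (e0 := e0) hmr (by rw [← hord]; exact pow_orderOf_eq_one _) (hdesc _ hfix)
  obtain ⟨y0, hy0⟩ := hdesc _ hy
  have h4 := conj_odd hyx hm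
  rw [← hy0, ← hx0, ← map_mul, ← map_inv, ← map_mul, ← map_inv] at h4
  refine hasReal_of_isConj (x := x0) ?_ (isConj_iff.2 ⟨y0, he0 h4⟩)
  rw [← orderOf_injective e0 he0 x0, hx0, hord]

/-- An element of order `r` of `G0` gives a torus element. -/
theorem exists_torus_elt [IsAlgClosed k] [Finite W] (hA : Cfsg.Agent.BpExc.TorAll.HAlg p k) (hk : LocFin k)
    (hσ : IsFrob p e σ)
    (F : Fr cs hp.isCartan (TT D k) (XX D l k) σ g) (hN : NSys M (TT D k) (nc hp k)) {G0 : Type*} [Group G0]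
    [Finite G0] {e0 : G0 →* ↥(D.group k)} (he0 : Function.Injective e0) (hfix : ∀ x, σ (e0 x) = e0 x) {r : ℕ}
    (hr : r.Prime) (hrp : r ≠ p) (hrG : r ∣ Nat.card G0) :
    ∃ (t : ↥(D.group k)) (w : W), t ∈ TT D k ∧ orderOf t = r ∧
      ∀ x, cX hp t (theta hp cs w g x) = cX hp t x ^ p ^ e := by
  have hrf : Fact r.Prime := ⟨hr⟩
  obtain ⟨x0, hx0⟩ := exists_prime_orderOf_dvd_card' r hrG
  have hord : orderOf (e0 x0) = r := by rw [orderOf_injective e0 he0, hx0]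
  obtain ⟨z₁, t, n, w, hx, ht, hn, hτ⟩ := exists_toral hp cs hA hk F hN (hfix x0) hr.ne_zero
    ((Nat.coprime_primes hr Fact.out).2 hrp) (by rw [← hord]; exact pow_orderOf_eq_one _)
  refine ⟨t, w, ht, ?_, (tau_iff hp cs hk hσ F hn ht).1 hτ⟩
  rw [← hord, hx]
  have h3 : z₁ * t * z₁⁻¹ = MulAut.conj z₁ t := rfl
  rw [h3]
  exact (orderOf_injective (MulAut.conj z₁).toMonoidHom (MulAut.conj z₁).injective t).symm

/-- **(A)** `-1` in the Weyl group. -/
theorem hasReal_neg [IsAlgClosed k] [Finite W] (hA : Cfsg.Agent.BpExc.TorAll.HAlg p k) (hk : LocFin k) (he : 0 < e)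
    (hσ : IsFrob p e σ) (F : Fr cs hp.isCartan (TT D k) (XX D l k) σ g) {d' : ℕ} {B' : Fin l → Fin l → ℤ}
    (hB : InvC D l d' B') (hd' : d' ≠ 0) (hN : NSys M (TT D k) (nc hp k)) {G0 : Type*} [Group G0] [Finite G0]
    {e0 : G0 →* ↥(D.group k)} (he0 : Function.Injective e0) (hfix : ∀ x, σ (e0 x) = e0 x) {m r : ℕ}
    (hr : r.Prime) (hrp : r ≠ p) (hm : Odd m) (hmr : m.Coprime r)
    (hdesc : ∀ y : ↥(D.group k), σ y = y → y ^ m ∈ e0.range) (hrG : r ∣ Nat.card G0) {w₀ : W}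
    (hneg : ∀ x, rep cs hp.isCartan w₀ x = -x) : HasReal r G0 := by
  obtain ⟨t, w, ht, htr, hτ⟩ := exists_torus_elt hp cs hA hk hσ F hN he0 hfix hr hrp hrG
  refine hasReal_of_twist hp cs hk he hσ F hB hd' hN he0 hm hmr hdesc ht htr hτ (w' := w₀)
    (fun x => ?_) (fun x => ?_)
  · rw [hneg, hneg, map_neg]
  · rw [hneg, (isMC_cX hp ht).neg]

/-- the values of the powers -/
theorem cX_iter {t : ↥(D.group k)} {v : W} {Q : ℤ}
    (hv : ∀ x, cX hp t (rep cs hp.isCartan v x) = cX hp t x ^ Q) (i : ℕ) (x : Fin l → ℤ) :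
    cX hp t (rep cs hp.isCartan (v ^ i) x) = cX hp t x ^ Q ^ i := by
  induction i with
  | zero => rw [pow_zero, map_one, Module.End.one_apply, pow_zero, zpow_one]
  | succ i ih => rw [pow_succ', rep_mul_apply, hv, ih, ← zpow_mul, pow_succ]

include hp in
/-- the character values of an element of order `r` -/
theorem cX_zpow_eq {t : ↥(D.group k)} (ht : t ∈ TT D k) {r : ℕ} (htr : orderOf t = r) {a b : ℤ}
    (hab : a ≡ b [ZMOD r]) (x : Fin l → ℤ) : cX hp t x ^ a = cX hp t x ^ b := by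
  have h0 := (isMC_cX hp ht).ne_zero x
  have h1 : cX hp t x ^ (r : ℤ) = 1 := by
    rw [zpow_natCast, ← cX_pow hp ht, ← htr, pow_orderOf_eq_one, cX_one]
  obtain ⟨c, hc⟩ := hab.dvd
  have h2 : b = a + r * c := by linarith
  rw [h2, zpow_add₀ h0, zpow_mul, h1, one_zpow, mul_one]

/-- **(B)** the twists are `± v`. -/
theorem hasReal_even [IsAlgClosed k] [Finite W] (hA : Cfsg.Agent.BpExc.TorAll.HAlg p k) (hk : LocFin k) (he : 0 < e)
    (hσ : IsFrob p e σ) (F : Fr cs hp.isCartan (TT D k) (XX D l k) σ g) {d' : ℕ} {B' : Fin l → Fin l → ℤ}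
    (hB : InvC D l d' B') (hd' : d' ≠ 0) (hN : NSys M (TT D k) (nc hp k)) {G0 : Type*} [Group G0] [Finite G0]
    {e0 : G0 →* ↥(D.group k)} (he0 : Function.Injective e0) (hfix : ∀ x, σ (e0 x) = e0 x) {m r : ℕ}
    (hr : r.Prime) (hrp : r ≠ p) (hm : Odd m) (hmr : m.Coprime r)
    (hdesc : ∀ y : ↥(D.group k), σ y = y → y ^ m ∈ e0.range) (hrG : r ∣ Nat.card G0) {ε : ℤ} (hε : ε * ε = 1)
    (hg : ∀ w : W, ∃ v : W, ∀ x, theta hp cs w g x = ε • rep cs hp.isCartan v x) {i : ℕ}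
    (hi : (ε * (p ^ e : ℕ)) ^ i ≡ -1 [ZMOD r]) : HasReal r G0 := by
  obtain ⟨t, w, ht, htr, hτ⟩ := exists_torus_elt hp cs hA hk hσ F hN he0 hfix hr hrp hrG
  obtain ⟨v, hv⟩ := hg w
  have hQ : ∀ x, cX hp t (rep cs hp.isCartan v x) = cX hp t x ^ (ε * (p ^ e : ℕ)) := by
    intro x
    have h1 := hτ x
    rw [hv, (isMC_cX hp ht).zsmul] at h1
    have h2 : (cX hp t (rep cs hp.isCartan v x) ^ ε) ^ ε = (cX hp t x ^ p ^ e) ^ ε := by rw [h1]
    rw [← zpow_mul, hε, zpow_one, ← zpow_natCast, ← zpow_mul, mul_comm _ ε] at h2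
    exact h2
  refine hasReal_of_twist hp cs hk he hσ F hB hd' hN he0 hm hmr hdesc ht htr hτ (w' := v ^ i)
    (fun x => ?_) (fun x => ?_)
  · rw [hv, hv, map_zsmul, ← rep_mul_apply, ← rep_mul_apply, ← pow_succ, ← pow_succ']
  · rw [cX_iter hp cs hQ, cX_zpow_eq hp ht htr hi, zpow_neg, zpow_one]

/-- **(C)** explicit data: a functional `c` on the root lattice with `c (v x) ≡ ε q c(x)`, `c (w' x) ≡ - c(x)`. -/
theorem hasReal_expl [IsAlgClosed k] [Finite W] (hk : LocFin k) (he : 0 < e)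
    (hσ : IsFrob p e σ) (F : Fr cs hp.isCartan (TT D k) (XX D l k) σ g) {d' : ℕ} {B' : Fin l → Fin l → ℤ}
    (hB : InvC D l d' B') (hd' : d' ≠ 0) (hN : NSys M (TT D k) (nc hp k)) {G0 : Type*} [Group G0] [Finite G0]
    {e0 : G0 →* ↥(D.group k)} (he0 : Function.Injective e0) {m r : ℕ}
    (hr : r.Prime) (hrp : r ≠ p) (hm : Odd m) (hmr : m.Coprime r)
    (hdesc : ∀ y : ↥(D.group k), σ y = y → y ^ m ∈ e0.range) {w w' : W} {c : (Fin l → ℤ) →+ ℤ}
    (hc : ∀ i, c (theta hp cs w g (sr i)) ≡ (p ^ e : ℕ) * c (sr i) [ZMOD r])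
    (hcomm : ∀ x, rep cs hp.isCartan w' (theta hp cs w g x) = theta hp cs w g (rep cs hp.isCartan w' x))
    (hneg : ∀ i, c (rep cs hp.isCartan w' (sr i)) ≡ -c (sr i) [ZMOD r])
    {x₀ : Fin l → ℤ} (hx₀ : ¬ (r : ℤ) ∣ c x₀) : HasReal r G0 := by
  have hrk : (r : k) ≠ 0 := by
    rw [Ne, CharP.cast_eq_zero_iff k p]
    intro h
    exact hrp (((Nat.prime_dvd_prime_iff_eq Fact.out hr).1 h).symm)
  have hrne : NeZero (r : k) := ⟨hrk⟩
  have hrne' : NeZero r := ⟨hr.ne_zero⟩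
  obtain ⟨u, hu⟩ := HasEnoughRootsOfUnity.exists_primitiveRoot k r
  have hu0 : u ≠ 0 := hu.ne_zero hr.ne_zero
  obtain ⟨t, ht, h3⟩ := exists_cX hp hB hd' (isMC_zpow (k := k) hu0 c)
    (fun i => IsAlgClosed.exists_pow_nat_eq _ (Nat.pos_of_ne_zero hd'))
  have hone : ∀ z : ℤ, u ^ z = 1 ↔ (r : ℤ) ∣ z := fun z => hu.zpow_eq_one_iff_dvd z
  have hcong : ∀ a b : ℤ, a ≡ b [ZMOD r] → u ^ a = u ^ b := by
    intro a b hab
    obtain ⟨z, hz⟩ := hab.dvd
    have h2 : b = a + r * z := by linarith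
    rw [h2, zpow_add₀ hu0, zpow_mul, zpow_natCast, hu.pow_eq_one, one_zpow, mul_one]
  have htr : orderOf t = r := by
    refine orderOf_eq_prime (hp := ⟨hr⟩) ?_ ?_
    · refine cX_inj hp (pow_mem ht r) (one_mem _) fun i => ?_
      rw [cX_pow hp ht, cX_one, h3, ← zpow_natCast, ← zpow_mul, hone]
      exact Dvd.intro_left _ rfl
    · rintro rfl
      have h4 := h3 x₀
      rw [cX_one] at h4
      exact hx₀ ((hone _).1 h4.symm)
  refine hasReal_of_twist hp cs hk he hσ F hB hd' hN he0 hm hmr hdesc ht htr (w := w) (fun x => ?_) hcomm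
    (fun x => ?_)
  · refine ((isMC_cX hp ht).comp (theta hp cs w g)).ext ((isMC_cX hp ht).pow (p ^ e)) (fun i => ?_) x
    show cX hp t (theta hp cs w g (sr i)) = cX hp t (sr i) ^ p ^ e
    rw [h3, h3, ← zpow_natCast, ← zpow_mul]
    refine hcong _ _ ?_
    rw [mul_comm (c (sr i))]
    exact hc i
  · have h5 : IsMC (fun x => (cX hp t x)⁻¹) :=
      { zero := by
          show (cX hp t 0)⁻¹ = 1
          rw [(isMC_cX hp ht).zero, inv_one]
        add := fun x y => by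
          show (cX hp t (x + y))⁻¹ = (cX hp t x)⁻¹ * (cX hp t y)⁻¹
          rw [(isMC_cX hp ht).add, mul_inv] }
    refine ((isMC_cX hp ht).comp (rep cs hp.isCartan w').toAddMonoidHom).ext h5 (fun i => ?_) x
    show cX hp t (rep cs hp.isCartan w' (sr i)) = (cX hp t (sr i))⁻¹
    rw [h3, h3, ← zpow_neg]
    exact hcong _ _ (hneg i)

end Cfsg.Agent.H720.RealTw
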