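import Mathlib
import Cfsg.Prelude.Def_Local
import Cfsg.Agent.Lib.PSolvable
import Cfsg.Agent.S0102
import Cfsg.Agent.S0493
import Cfsg.Agent.Schreier.Bridge
import Cfsg.Agent.H722.Struct
import Cfsg.Agent.H720.RowDef

/-!
# Groups generated by 2-elements without real elements of odd prime order `p` (helper720)

* `not_dvd_of_pSolvable` : such a `p`-solvable group has order prime to `p`;
* `sylow_comm` : if the finite nonabelian simple groups satisfy the table (`Row`) and the Schreier property, then the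
  Sylow `p`-subgroups of such a group are abelian.
-/

set_option autoImplicit false

namespace Cfsg.Agent.H720.Reduce

open Subgroup
open Cfsg.Agent.H722.RealP Cfsg.Agent.H722.Struct Cfsg.Agent.H720.RowDef

/-- A `p`-solvable group generated by its 2-elements without real elements of order `p` has order prime to `p`. -/
theorem not_dvd_of_pSolvable {G : Type*} [Group G] [Finite G] {p : ℕ} [Fact p.Prime] (hp2 : p ≠ 2)
    (h2 : TwoGen G) (hreal : ¬ HasReal p G) (hs : Cfsg.IsPSolvable p G) : ¬ p ∣ Nat.card G := by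
  have hN : (Cfsg.pPrimeCore p G).Normal := Lib.Cores.pPrimeCore_normal p
  set Q := G ⧸ Cfsg.pPrimeCore p G with hQ
  have h2Q : TwoGen Q := h2.of_surjective (QuotientGroup.mk' _) (QuotientGroup.mk'_surjective _)
  have hrQ : ¬ HasReal p Q := fun h => hreal (h.of_quotient hp2)
  have hsQ : Cfsg.IsPSolvable p Q := Lib.PSolvable.IsPSolvable_of_surjective p hs (QuotientGroup.mk' _)
    (QuotientGroup.mk'_surjective _)
  have hO : Cfsg.pPrimeCore p Q = ⊥ := Lib.Cores.pPrimeCore_quotient_pPrimeCore p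
  have hC := Lib.PSolvable.centralizer_pCore_le_of_pSolvable p hsQ hO
  have hc : Cfsg.pCore p Q ≤ center Q := le_center h2Q hrQ (Lib.Cores.pCore_normal p) (Lib.Cores.pCore_isPGroup p)
  have htop : Cfsg.pCore p Q = ⊤ := by
    rw [eq_top_iff]
    refine le_trans ?_ hC
    intro g _
    rw [mem_centralizer_iff]
    intro x hx
    exact ((mem_center_iff.1 (hc hx)) g).symm
  have hpQ : IsPGroup p Q := (Lib.Cores.pCore_eq_top_iff p).1 htop
  have hsub : Subsingleton Q := subsingleton_of_pGroup hp2 h2Q hpQ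
  have h1 : Cfsg.pPrimeCore p G = ⊤ := QuotientGroup.subsingleton_iff.1 hsub
  have h3 := (Lib.Cores.pPrimeCore_eq_top_iff (G := G) p).1 h1
  exact fun hd => (Nat.Prime.coprime_iff_not_dvd Fact.out).1 h3.symm hd

/-- If distinct conjugates of `L` commute and meet trivially, 2-elements normalise `L`. -/
theorem mem_normalizer {G : Type*} [Group G] [Finite G] {p : ℕ} [Fact p.Prime] (hreal : ¬ HasReal p G)
    {L : Subgroup G} (hpL : p ∣ Nat.card L)
    (hL : ∀ g : G, g ∉ normalizer (L : Set G) → ∀ x ∈ L, ∀ y ∈ L,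
      x * (g * y * g⁻¹) = (g * y * g⁻¹) * x ∧ (x = g * y * g⁻¹ → x = 1))
    {t : G} (ht : ∃ k : ℕ, orderOf t = 2 ^ k) : t ∈ normalizer (L : Set G) := by
  classical
  by_contra htn
  obtain ⟨m, hm⟩ := ht
  have hex : ∃ k : ℕ, t ^ 2 ^ k ∈ normalizer (L : Set G) :=
    ⟨m, by rw [← hm, pow_orderOf_eq_one]; exact one_mem _⟩
  set k := Nat.find hex with hk
  have hk1 := Nat.find_spec hex
  have hk0 : k ≠ 0 := by
    intro h0
    rw [← hk, h0, pow_zero, pow_one] at hk1
    exact htn hk1
  obtain ⟨j, hj⟩ := Nat.exists_eq_succ_of_ne_zero hk0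
  have hj1 : t ^ 2 ^ j ∉ normalizer (L : Set G) :=
    Nat.find_min hex (by rw [← hk, hj]; exact Nat.lt_succ_self _)
  set s := t ^ 2 ^ j with hs
  have hss : s * s = t ^ 2 ^ k := by rw [hs, hj, pow_succ, pow_mul, pow_two]
  have hssN : s * s ∈ normalizer (L : Set G) := by rw [hss]; exact hk1
  have hsi : s⁻¹ ∉ normalizer (L : Set G) := fun h => hj1 (by simpa using inv_mem h)
  -- a Sylow subgroup of `L` normalised by `(s²) l`
  obtain ⟨P⟩ : Nonempty (Sylow p L) := inferInstance
  let R : Subgroup G := (P : Subgroup L).map L.subtype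
  have hRL : R ≤ L := by rintro _ ⟨r, -, rfl⟩; exact r.2
  have hRp : IsPGroup p R := P.isPGroup'.map _
  obtain ⟨l, hl, hlR⟩ : ∃ l ∈ L, ∀ r ∈ R, (s * s * l) * r * (s * s * l)⁻¹ ∈ R := by
    have hN2 := inv_mem hssN
    let φ : L ≃* L := (normalizerMonoidHom L ⟨(s * s)⁻¹, hN2⟩)
    have hφ : ∀ y : L, ((φ y : L) : G) = (s * s)⁻¹ * (y : G) * (s * s)⁻¹⁻¹ := fun y => rfl
    obtain ⟨k, hk⟩ := MulAction.exists_smul_eq L P (P.mapSurjective φ.surjective)
    refine ⟨k, k.2, ?_⟩
    rintro _ ⟨r, hr, rfl⟩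
    have h1 : k * r * k⁻¹ ∈ (P.mapSurjective φ.surjective : Subgroup L) := by
      rw [← hk]
      exact mem_map_of_mem (MulDistribMulAction.toMonoidEnd _ _ (MulAut.conj k)) hr
    obtain ⟨r', hr', hrr⟩ := h1
    refine ⟨r', hr', ?_⟩
    have h3 : (s * s)⁻¹ * (r' : G) * (s * s)⁻¹⁻¹ = k * (r : G) * (k : G)⁻¹ := by
      rw [← hφ r']
      exact congrArg Subtype.val hrr
    have h4 : (r' : G) = (s * s) * ((s * s)⁻¹ * (r' : G) * (s * s)⁻¹⁻¹) * (s * s)⁻¹ := by group
    show (r' : G) = s * s * (k : G) * (r : G) * (s * s * (k : G))⁻¹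
    rw [h4, h3]
    group
  set v := s * l with hv
  have hvn : v ∉ normalizer (L : Set G) := by
    intro h
    have := mul_mem h (inv_mem (le_normalizer (H := L) hl))
    rw [hv, mul_inv_cancel_right] at this
    exact hj1 this
  -- `v²` normalises `R`
  have hvv : ∀ x ∈ L, v * v * x * (v * v)⁻¹ = (s * s * l) * x * (s * s * l)⁻¹ := by
    intro x hx
    have h1 : v * v = (s * s * l) * (s⁻¹ * l * s) := by
      have h3 := (hL s⁻¹ hsi l hl l hl).1
      rw [inv_inv] at h3
      calc v * v = s * s * ((s⁻¹ * l * s) * l) := by rw [hv]; group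
        _ = s * s * (l * (s⁻¹ * l * s)) := by rw [h3]
        _ = (s * s * l) * (s⁻¹ * l * s) := by group
    have h4 : (s⁻¹ * l * s) * x = x * (s⁻¹ * l * s) := by
      have := (hL s⁻¹ hsi x hx l hl).1
      rw [inv_inv] at this
      exact this.symm
    rw [h1]
    calc s * s * l * (s⁻¹ * l * s) * x * (s * s * l * (s⁻¹ * l * s))⁻¹
        = s * s * l * ((s⁻¹ * l * s) * x) * (s⁻¹ * l * s)⁻¹ * (s * s * l)⁻¹ := by group
      _ = s * s * l * (x * (s⁻¹ * l * s)) * (s⁻¹ * l * s)⁻¹ * (s * s * l)⁻¹ := by rw [h4]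
      _ = _ := by group
  have hvvR : ∀ r ∈ R, v * v * r * (v * v)⁻¹ ∈ R := by
    intro r hr
    rw [hvv r (hRL hr)]
    exact hlR r hr
  -- the subgroup `R · vRv⁻¹`
  let R' : Subgroup G := R.map (MulAut.conj v).toMonoidHom
  have hR' : ∀ x, x ∈ R' ↔ ∃ r ∈ R, v * r * v⁻¹ = x := fun x => Iff.rfl
  have hcomm : ∀ x ∈ R, ∀ y ∈ R', x * y = y * x := by
    rintro x hx _ ⟨r, hr, rfl⟩
    exact (hL v hvn x (hRL hx) r (hRL hr)).1
  have hcom' : ∀ (x : R) (y : R'), Commute (R.subtype x) (R'.subtype y) := fun x y => hcomm x x.2 y y.2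
  let Φ : R × R' →* G := MonoidHom.noncommCoprod R.subtype R'.subtype hcom'
  have hΦ : ∀ x : R × R', Φ x = (x.1 : G) * (x.2 : G) := fun x => rfl
  have hRp' : IsPGroup p R' := hRp.map _
  have hprod : IsPGroup p (R × R') := by
    rintro ⟨x, y⟩
    obtain ⟨a, ha⟩ := hRp x
    obtain ⟨b, hb⟩ := hRp' y
    refine ⟨a + b, Prod.ext ?_ ?_⟩
    · show x ^ p ^ (a + b) = 1
      rw [pow_add, pow_mul, ha, one_pow]
    · show y ^ p ^ (a + b) = 1
      rw [pow_add, mul_comm, pow_mul, hb, one_pow]
  have hSp : IsPGroup p Φ.range := hprod.of_surjective Φ.rangeRestrict Φ.rangeRestrict_surjective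
  have hvS : ∀ x ∈ Φ.range, v * x * v⁻¹ ∈ Φ.range := by
    rintro _ ⟨⟨x, y⟩, rfl⟩
    obtain ⟨r, hr, hry⟩ := (hR' y).1 y.2
    rw [hΦ]
    have h1 : v * ((x : G) * (y : G)) * v⁻¹ = (v * v * r * (v * v)⁻¹) * (v * x * v⁻¹) := by
      have h5 : (x : G) * y = y * x := hcomm x x.2 y y.2
      rw [h5, ← hry]
      group
    simp only
    rw [h1]
    exact ⟨(⟨_, hvvR r hr⟩, ⟨v * x * v⁻¹, (hR' _).2 ⟨x, x.2, rfl⟩⟩), rfl⟩
  -- the 2-part of `v`
  obtain ⟨i, n, hn, hin⟩ := Nat.exists_eq_two_pow_mul_odd (orderOf_pos v).ne'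
  have hw : orderOf (v ^ n) = 2 ^ i := by
    rw [orderOf_pow_of_dvd (by rintro rfl; simp at hn) (by rw [hin]; exact Dvd.intro_left _ rfl), hin]
    exact Nat.mul_div_cancel _ hn.pos
  -- `v ^ n` moves `R`
  have hvvn : ∀ a : ℕ, ∀ r ∈ R, (v * v) ^ a * r * ((v * v) ^ a)⁻¹ ∈ R := fun a =>
    Cfsg.Agent.H722.CompAct.pow_norm (H := (R : Set G)) hvvR a
  have hne : ∃ r ∈ R, r ≠ 1 := by
    by_contra hc
    push Not at hc
    have hPbot : (P : Subgroup L) = ⊥ := by
      rw [eq_bot_iff]
      intro x hx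
      exact Subtype.ext (hc _ (mem_map_of_mem _ hx))
    have h1 := P.dvd_card_of_dvd_card hpL
    rw [hPbot, card_bot] at h1
    exact (Fact.out : p.Prime).one_lt.ne' (Nat.dvd_one.1 h1)
  obtain ⟨r, hr, hr1⟩ := hne
  apply hreal
  refine hasReal_of_act hSp (t := v ^ n) ⟨i, hw⟩
    (Cfsg.Agent.H722.CompAct.pow_norm (H := (Φ.range : Set G)) hvS n) ⟨r, ⟨(⟨r, hr⟩, 1), by simp [hΦ]⟩, ?_⟩
  intro h
  obtain ⟨a, rfl⟩ := hn
  have h3 : v ^ (2 * a + 1) * r * (v ^ (2 * a + 1))⁻¹ = v * ((v * v) ^ a * r * ((v * v) ^ a)⁻¹) * v⁻¹ := by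
    have e1 : v ^ (2 * a + 1) = v * (v * v) ^ a := by
      rw [pow_succ', pow_mul, pow_two]
    rw [e1]
    group
  rw [h3] at h
  exact hr1 ((hL v hvn r (hRL hr) _ (hRL (hvvn a r hr))).2 h.symm)

/-! ### the simple groups -/

section Psl

open Matrix

/-- The Sylow `p`-subgroups of `PSL(2, F)`, char `F = p`, are abelian. -/
theorem psl_sylow_comm {F : Type*} [Field F] [Fintype F] {p : ℕ} [Fact p.Prime] [CharP F p]
    (S : Sylow p (ProjectiveSpecialLinearGroup (Fin 2) F)) : IsMulCommutative (S : Subgroup (ProjectiveSpecialLinearGroup (Fin 2) F)) := by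
  obtain ⟨T, hT⟩ := Cfsg.Agent.ClassicalGeometry.AutPSL.SylowU.exists_sylow (F := F) 2 p
  have hu : ∀ a ∈ Cfsg.Agent.ClassicalGeometry.AutPSL.SylowU.upper 2 F, ∀ b ∈
      Cfsg.Agent.ClassicalGeometry.AutPSL.SylowU.upper 2 F, a * b = b * a := by
    intro a ha b hb
    have ha00 : (a : Matrix (Fin 2) (Fin 2) F) 0 0 = 1 := ha 0 0 le_rfl
    have ha11 : (a : Matrix (Fin 2) (Fin 2) F) 1 1 = 1 := ha 1 1 le_rfl
    have ha10 : (a : Matrix (Fin 2) (Fin 2) F) 1 0 = 0 := ha 1 0 (by decide)
    have hb00 : (b : Matrix (Fin 2) (Fin 2) F) 0 0 = 1 := hb 0 0 le_rfl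
    have hb11 : (b : Matrix (Fin 2) (Fin 2) F) 1 1 = 1 := hb 1 1 le_rfl
    have hb10 : (b : Matrix (Fin 2) (Fin 2) F) 1 0 = 0 := hb 1 0 (by decide)
    have key : (a : Matrix (Fin 2) (Fin 2) F) * (b : Matrix (Fin 2) (Fin 2) F) =
        (b : Matrix (Fin 2) (Fin 2) F) * (a : Matrix (Fin 2) (Fin 2) F) := by
      ext i j
      fin_cases i <;> fin_cases j <;>
        simp [Matrix.mul_apply, Fin.sum_univ_two, ha00, ha11, ha10, hb00, hb11, hb10, add_comm]
    exact Subtype.ext key
  have hTc : ∀ x ∈ (T : Subgroup (ProjectiveSpecialLinearGroup (Fin 2) F)),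
      ∀ y ∈ (T : Subgroup (ProjectiveSpecialLinearGroup (Fin 2) F)), x * y = y * x := by
    intro x hx y hy
    rw [hT] at hx hy
    obtain ⟨a, ha, rfl⟩ := hx
    obtain ⟨b, hb, rfl⟩ := hy
    rw [← map_mul, ← map_mul, hu a ha b hb]
  obtain ⟨g, hg⟩ := MulAction.exists_smul_eq (ProjectiveSpecialLinearGroup (Fin 2) F) T S
  refine ⟨⟨fun x y => Subtype.ext ?_⟩⟩
  have hmem' : ∀ z : ProjectiveSpecialLinearGroup (Fin 2) F,
      z ∈ (S : Subgroup (ProjectiveSpecialLinearGroup (Fin 2) F)) →
      ∃ w ∈ (T : Subgroup (ProjectiveSpecialLinearGroup (Fin 2) F)), g * w * g⁻¹ = z := by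
    intro z hz
    rw [← hg] at hz
    obtain ⟨w, hw, hwz⟩ := hz
    exact ⟨w, hw, hwz⟩
  have hmem : ∀ z : (S : Subgroup (ProjectiveSpecialLinearGroup (Fin 2) F)),
      ∃ w ∈ (T : Subgroup (ProjectiveSpecialLinearGroup (Fin 2) F)),
      g * w * g⁻¹ = (z : ProjectiveSpecialLinearGroup (Fin 2) F) := fun z => hmem' z z.2
  obtain ⟨a, ha, hax⟩ := hmem x
  obtain ⟨b, hb, hby⟩ := hmem y
  show (x : ProjectiveSpecialLinearGroup (Fin 2) F) * y = y * x
  rw [← hax, ← hby]
  calc g * a * g⁻¹ * (g * b * g⁻¹) = g * (a * b) * g⁻¹ := by group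
    _ = g * (b * a) * g⁻¹ := by rw [hTc a ha b hb]
    _ = _ := by group

end Psl

universe u

open scoped commutatorElement

/-- The property of simple groups used below. -/
def Good (p : ℕ) (X : Type u) [Group X] : Prop :=
  (∀ P : Sylow p X, IsMulCommutative (P : Subgroup X)) ∧
    ∀ (L : Type u) [Group L] [Finite L] (f : L →* X), Function.Surjective f → f.ker ≤ center L →
      commutator L = ⊤ → IsPGroup p f.ker → f.ker = ⊥

theorem good_of_row {p : ℕ} [Fact p.Prime] (hp2 : p ≠ 2) {X : Type u} [Group X] [Finite X]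
    [IsSimpleGroup X] (hna : ¬ IsMulCommutative X) (hr : ¬ HasReal p X) (h : Row p X) : Good p X := by
  have hp : p.Prime := Fact.out
  rcases h with h | h | ⟨F, _, _, hF, h4, ⟨e⟩⟩
  · exact absurd h hr
  · have hperf : commutator X = ⊤ := by
      rcases (inferInstance : (commutator X).Normal).eq_bot_or_eq_top with h1 | h1
      · exfalso
        apply hna
        refine ⟨⟨fun a b => ?_⟩⟩
        have h3 : ⁅a, b⁆ ∈ commutator X := commutator_mem_commutator (mem_top a) (mem_top b)
        rw [h1, mem_bot, commutatorElement_eq_one_iff_mul_comm] at h3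
        exact h3
      · exact h1
    refine ⟨fun P => ?_, ?_⟩
    · have := h P
      exact ⟨⟨fun a b => IsCyclic.commGroup.mul_comm a b⟩⟩
    · intro L _ _ f hf hc hL hk
      have h1 := Cfsg.Agent.S0102.result hperf h f hf hc hL
      obtain ⟨n, hn⟩ := IsPGroup.iff_card.1 hk
      rcases n with _ | n
      · rw [pow_zero] at hn
        exact Subgroup.card_eq_one.1 hn
      · exact absurd (by rw [hn]; exact dvd_pow_self p n.succ_ne_zero) h1
  · have hodd : Odd (Fintype.card F) := Nat.odd_iff.2 (by omega)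
    have h3 : 3 < Fintype.card F := by
      by_contra hlt
      have h3 : Fintype.card F = 3 := by omega
      have hc := Cfsg.Agent.SmallSimple.PSLTwoPart.card_psl_two_odd hodd
      rw [h3] at hc
      have h12 : Nat.card X = 12 := by rw [Nat.card_congr e.toEquiv]; omega
      have h60 := Cfsg.Agent.S0493.result (G := X) (fun hc => hna (by
        have := hc
        exact IsCyclic.isMulCommutative)) (by omega)
      omega
    refine ⟨fun P => ?_, ?_⟩
    · have h5 := psl_sylow_comm (P.mapSurjective (f := e.toMonoidHom) e.surjective)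
      refine ⟨⟨fun a b => Subtype.ext (e.injective ?_)⟩⟩
      have ha : e (a : X) ∈ (P.mapSurjective (f := e.toMonoidHom) e.surjective : Subgroup _) :=
        mem_map_of_mem e.toMonoidHom a.2
      have hb : e (b : X) ∈ (P.mapSurjective (f := e.toMonoidHom) e.surjective : Subgroup _) :=
        mem_map_of_mem e.toMonoidHom b.2
      have := congrArg Subtype.val (h5.1.1 ⟨_, ha⟩ ⟨_, hb⟩)
      show e ((a : X) * b) = e ((b : X) * a)
      rw [map_mul, map_mul]
      exact this
    · intro L _ _ f hf hc hL hk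
      have hker : (e.toMonoidHom.comp f).ker = f.ker := by
        ext x
        rw [MonoidHom.mem_ker, MonoidHom.mem_ker]
        exact map_eq_one_iff e e.injective
      have hbot : (e.toMonoidHom.comp f).ker = ⊥ := by
        apply Lib.PSL2Mult.ker_eq_bot hodd h3 (by omega) (e.surjective.comp hf) (by rw [hker]; exact hc) hL
        rw [hker]
        obtain ⟨n, hn⟩ := IsPGroup.iff_card.1 hk
        rw [hn]
        exact (hp.odd_of_ne_two hp2).pow
      rw [← hker, hbot]

/-- The table for all nonabelian finite simple groups of a universe. -/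
def SimpleT (p : ℕ) : Prop :=
  ∀ (X : Type u) [Group X] [Finite X] [IsSimpleGroup X], ¬ IsMulCommutative X → p ∣ Nat.card X → Row p X

/-- The Schreier property for all nonabelian finite simple groups of a universe. -/
def Schr : Prop :=
  ∀ (X : Type u) [Group X] [Finite X] [IsSimpleGroup X], ¬ IsMulCommutative X → Cfsg.Agent.Schreier.Basic.Sch X

theorem exists_component {G : Type u} [Group G] [Finite G] {p : ℕ} [Fact p.Prime] (hp2 : p ≠ 2)
    (hs : SimpleT.{u} p) (h2 : TwoGen G) (hO : Cfsg.pPrimeCore p G = ⊥) (hreal : ¬ HasReal p G)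
    (hne : Nontrivial G) :
    ∃ L : Subgroup G, Cfsg.IsComponent L ∧ center L = ⊥ ∧ IsSimpleGroup L ∧ ¬ IsMulCommutative L ∧
      p ∣ Nat.card L ∧ ∀ P : Sylow p L, IsMulCommutative (P : Subgroup L) := by
  have hp : p.Prime := Fact.out
  have hF0 : Cfsg.fittingSubgroup G ≤ Cfsg.pCore p G :=
    SignalizersComponents.CompOrbit.fittingSubgroup_le_pCore hO
  have hF : Cfsg.fittingSubgroup G ≤ center G :=
    hF0.trans (le_center h2 hreal (Lib.Cores.pCore_normal p) (Lib.Cores.pCore_isPGroup p))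
  have hFp : IsPGroup p (Cfsg.fittingSubgroup G) := (Lib.Cores.pCore_isPGroup p).to_le hF0
  have hcF : (⊤ : Subgroup G) ≤ centralizer (Cfsg.fittingSubgroup G : Set G) := by
    intro g _
    rw [mem_centralizer_iff]
    intro x hx
    exact ((mem_center_iff.1 (hF hx)) g).symm
  have hns : ¬ Group.IsSolvable (⊤ : Subgroup G) := by
    intro h
    have h1 := SignalizersComponents.ComponentExists.le_fitting_of_normal_of_isSolvable
      (N := (⊤ : Subgroup G)) inferInstance h hcF
    have h3 : Cfsg.fittingSubgroup G = ⊤ := top_le_iff.1 h1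
    rw [h3] at hFp
    have h4 : IsPGroup p G := hFp.of_equiv topEquiv
    have := subsingleton_of_pGroup (p := p) hp2 h2 h4
    exact not_subsingleton G this
  obtain ⟨L, hL, -⟩ := SignalizersComponents.ComponentExists.exists_isComponent_le
    (C := (⊤ : Subgroup G)) Subgroup.IsSubnormal.top hns hcF
  have hsub : L.IsSubnormal := hL.1
  have hperf : commutator L = ⊤ := Group.isPerfect_def.1 hL.2.1
  have hZp : IsPGroup p (center L) := by
    have h1 : center L ≤ Cfsg.fittingSubgroup L := by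
      apply Lib.Cores.le_fittingSubgroup inferInstance
      exact isNilpotent_center L
    have h3 := (map_mono h1).trans (SignalizersComponents.FStarNormal.fitting_map_le_of_subnormal hsub)
    have h4 : IsPGroup p ((center L).map L.subtype) := hFp.to_le h3
    exact h4.of_equiv ((center L).equivMapOfInjective L.subtype L.subtype_injective).symm
  have h3 : p ∣ Nat.card (L ⧸ center L) := by
    by_contra h
    have h4 : ¬ p ∣ Nat.card L := not_dvd_of_quotient hperf h
    have h5 : L ≤ Cfsg.pPrimeCore p G := SignalizersComponents.CompBasic.subnormal_coprime_le_pPrimeCore hsub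
      (((Nat.Prime.coprime_iff_not_dvd hp).2 h4).symm)
    rw [hO, le_bot_iff] at h5
    exact SignalizersComponents.Components.component_ne_bot hL h5
  have hrealQ : ¬ HasReal p (L ⧸ center L) := fun h => hreal ((h.of_quotient hp2).of_subgroup)
  have hnaQ : ¬ IsMulCommutative (L ⧸ center L) := by
    intro h
    have : Group.IsPerfect (L ⧸ center L) := by
      have := hL.2.1
      infer_instance
    have h6 : Subsingleton (L ⧸ center L) := Group.IsPerfect.subsingleton_of_isMulCommutative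
    have := hL.2.2
    exact not_subsingleton (L ⧸ center L) h6
  have hsimQ : IsSimpleGroup (L ⧸ center L) := hL.2.2
  obtain ⟨hg1, hg2⟩ := good_of_row hp2 hnaQ hrealQ (hs (L ⧸ center L) hnaQ h3)
  have hbot : center L = ⊥ := by
    have h7 := hg2 L (QuotientGroup.mk' (center L)) (QuotientGroup.mk'_surjective _)
      (by rw [QuotientGroup.ker_mk']) hperf (by rw [QuotientGroup.ker_mk']; exact hZp)
    rwa [QuotientGroup.ker_mk'] at h7
  let e : L ≃* L ⧸ center L := MulEquiv.ofBijective (QuotientGroup.mk' (center L))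
    ⟨(MonoidHom.ker_eq_bot_iff _).1 (by rw [QuotientGroup.ker_mk', hbot]), QuotientGroup.mk'_surjective _⟩
  refine ⟨L, hL, hbot, e.isSimpleGroup, ?_, ?_, ?_⟩
  · intro h
    exact hnaQ ⟨⟨fun a b => e.symm.injective (by rw [map_mul, map_mul]; exact h.1.1 _ _)⟩⟩
  · rw [Nat.card_congr e.toEquiv]
    exact h3
  · intro P
    have h5 := hg1 (P.mapSurjective (f := e.toMonoidHom) e.surjective)
    refine ⟨⟨fun a b => Subtype.ext (e.injective ?_)⟩⟩
    have ha : e (a : L) ∈ (P.mapSurjective (f := e.toMonoidHom) e.surjective : Subgroup _) :=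
      mem_map_of_mem e.toMonoidHom a.2
    have hb : e (b : L) ∈ (P.mapSurjective (f := e.toMonoidHom) e.surjective : Subgroup _) :=
      mem_map_of_mem e.toMonoidHom b.2
    have := congrArg Subtype.val (h5.1.1 ⟨_, ha⟩ ⟨_, hb⟩)
    show e ((a : L) * b) = e ((b : L) * a)
    rw [map_mul, map_mul]
    exact this

/-- A component as above is normal. -/
theorem component_normal {G : Type u} [Group G] [Finite G] {p : ℕ} [Fact p.Prime] (h2 : TwoGen G)
    (hreal : ¬ HasReal p G) {L : Subgroup G} (hL : Cfsg.IsComponent L) (hZ : center L = ⊥)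
    (hpL : p ∣ Nat.card L) : L.Normal := by
  have hconj : ∀ g : G, g ∉ normalizer (L : Set G) → ∀ x ∈ L, ∀ y ∈ L,
      x * (g * y * g⁻¹) = (g * y * g⁻¹) * x ∧ (x = g * y * g⁻¹ → x = 1) := by
    intro g hg x hx y hy
    have hne : L.map (MulAut.conj g).toMonoidHom ≠ L := by
      intro h
      apply hg
      rw [mem_normalizer_iff]
      intro z
      constructor
      · intro hz
        rw [← h]
        exact ⟨z, hz, rfl⟩
      · intro hz
        rw [← h] at hz
        obtain ⟨w, hw, hwz⟩ := hz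
        have : w = z := by
          have h3 : g * w * g⁻¹ = g * z * g⁻¹ := hwz
          exact mul_left_cancel (mul_right_cancel h3)
        rw [← this]
        exact hw
    have h3 := SignalizersComponents.Components.component_le_centralizer_of_ne
      (SignalizersComponents.Components.isComponent_conj g hL) hL hne
    have h4 : g * y * g⁻¹ ∈ centralizer (L : Set G) := h3 ⟨y, hy, rfl⟩
    rw [mem_centralizer_iff] at h4
    refine ⟨h4 x hx, fun h => ?_⟩
    rw [← h] at h4
    have h5 : (⟨x, hx⟩ : L) ∈ center L := by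
      rw [mem_center_iff]
      intro z
      exact Subtype.ext (h4 z z.2)
    rw [hZ, mem_bot] at h5
    exact congrArg Subtype.val h5
  rw [← normalizer_eq_top_iff, eq_top_iff, ← (show closure {g : G | ∃ k : ℕ, orderOf g = 2 ^ k} = ⊤ from h2),
    closure_le]
  intro t ht
  exact mem_normalizer hreal hpL hconj ht

/-- commutators of elements of a Sylow subgroup whose images commute. -/
theorem commutator_mem_of_comm {G : Type*} [Group G] [Finite G] {p : ℕ} [Fact p.Prime] {N : Subgroup G}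
    [N.Normal] (P : Sylow p G) (h : ∀ Q : Sylow p (G ⧸ N), IsMulCommutative (Q : Subgroup (G ⧸ N))) {a b : G}
    (ha : a ∈ (P : Subgroup G)) (hb : b ∈ (P : Subgroup G)) : ⁅a, b⁆ ∈ N := by
  have h1 := h (P.mapSurjective (f := QuotientGroup.mk' N) (QuotientGroup.mk'_surjective N))
  have ha' : QuotientGroup.mk' N a ∈
      (P.mapSurjective (f := QuotientGroup.mk' N) (QuotientGroup.mk'_surjective N) : Subgroup _) :=
    mem_map_of_mem _ ha
  have hb' : QuotientGroup.mk' N b ∈
      (P.mapSurjective (f := QuotientGroup.mk' N) (QuotientGroup.mk'_surjective N) : Subgroup _) :=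
    mem_map_of_mem _ hb
  have h2 := congrArg Subtype.val (h1.1.1 ⟨_, ha'⟩ ⟨_, hb'⟩)
  rw [← QuotientGroup.ker_mk' N, MonoidHom.mem_ker, map_commutatorElement,
    commutatorElement_eq_one_iff_mul_comm]
  exact h2

theorem card_quotient_lt {G : Type*} [Group G] [Finite G] {N : Subgroup G} [N.Normal] (hN : N ≠ ⊥) :
    Nat.card (G ⧸ N) < Nat.card G := by
  have h1 := Subgroup.card_eq_card_quotient_mul_card_subgroup N
  have h2 : 1 < Nat.card N := (one_lt_card_iff_ne_bot N).2 hN
  have h3 : 0 < Nat.card (G ⧸ N) := Nat.card_pos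
  rw [h1]
  nlinarith

/-- **Theorem.** -/
theorem sylow_comm {p : ℕ} [Fact p.Prime] (hp2 : p ≠ 2) (hs : SimpleT.{u} p) (hsch : Schr.{u}) (n : ℕ) :
    ∀ (G : Type u) [Group G] [Finite G], Nat.card G = n → TwoGen G → ¬ HasReal p G →
      ∀ P : Sylow p G, IsMulCommutative (P : Subgroup G) := by
  have hp : p.Prime := Fact.out
  induction n using Nat.strong_induction_on with
  | _ n ih =>
  intro G _ _ hn h2 hreal P
  have hcomm_of : ∀ {N : Subgroup G} [N.Normal], N ≠ ⊥ → ∀ {a b : G}, a ∈ (P : Subgroup G) →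
      b ∈ (P : Subgroup G) → ⁅a, b⁆ ∈ N := by
    intro N _ hN a b ha hb
    exact commutator_mem_of_comm P (ih _ (by rw [← hn]; exact card_quotient_lt hN) (G ⧸ N) rfl
      (h2.of_surjective (QuotientGroup.mk' N) (QuotientGroup.mk'_surjective N))
      (fun h => hreal (h.of_quotient hp2))) ha hb
  have hmul : ∀ {a b : G}, ⁅a, b⁆ = 1 → a * b = b * a := fun h => commutatorElement_eq_one_iff_mul_comm.1 h
  by_cases hO : Cfsg.pPrimeCore p G = ⊥
  · rcases subsingleton_or_nontrivial G with hsub | hnt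
    · exact ⟨⟨fun a b => Subsingleton.elim _ _⟩⟩
    obtain ⟨L, hL, hZ, hsim, hna, hpL, hLs⟩ := exists_component hp2 hs h2 hO hreal hnt
    have hLn : L.Normal := component_normal h2 hreal hL hZ hpL
    have hLne : L ≠ ⊥ := SignalizersComponents.Components.component_ne_bot hL
    have hdisj : ∀ x ∈ L, x ∈ centralizer (L : Set G) → x = 1 := by
      intro x hx hxc
      rw [mem_centralizer_iff] at hxc
      have h5 : (⟨x, hx⟩ : L) ∈ center L := by
        rw [mem_center_iff]
        intro z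
        exact Subtype.ext (hxc z z.2)
      rw [hZ, mem_bot] at h5
      exact congrArg Subtype.val h5
    by_cases hC : centralizer (L : Set G) = ⊥
    · -- `G / L` is solvable
      have hI : ((MulAut.conj : L →* MulAut L).range).Normal := by
        constructor
        rintro _ ⟨x, rfl⟩ β
        refine ⟨β x, ?_⟩
        apply MulEquiv.ext
        intro y
        rw [MulAut.mul_apply, MulAut.mul_apply, MulAut.conj_apply, MulAut.conj_apply, map_mul, map_mul, map_inv,
          MulAut.apply_inv_self]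
      have hsol : Group.IsSolvable (MulAut L ⧸ (MulAut.conj : L →* MulAut L).range) :=
        (Cfsg.Agent.Schreier.Bridge.sch_iff hI).1 (hsch L hna)
      let ρ : G →* MulAut L ⧸ (MulAut.conj : L →* MulAut L).range :=
        (QuotientGroup.mk' _).comp (MulAut.conjNormal : G →* MulAut L)
      have hρ : ∀ x, ρ x = 1 ↔ x ∈ L := by
        intro x
        constructor
        · intro h
          obtain ⟨l, hl⟩ := (QuotientGroup.eq_one_iff _).1 h
          have h6 : (l : G)⁻¹ * x ∈ centralizer (L : Set G) := by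
            rw [mem_centralizer_iff]
            intro y hy
            have h7 : ((MulAut.conj l ⟨y, hy⟩ : L) : G) = x * y * x⁻¹ := by
              rw [hl]
              exact MulAut.conjNormal_apply x ⟨y, hy⟩
            rw [MulAut.conj_apply] at h7
            have h8 : (l : G) * y * (l : G)⁻¹ = x * y * x⁻¹ := h7
            calc y * ((l : G)⁻¹ * x) = (l : G)⁻¹ * ((l : G) * y * (l : G)⁻¹) * x := by group
              _ = (l : G)⁻¹ * (x * y * x⁻¹) * x := by rw [h8]
              _ = _ := by group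
          rw [hC, mem_bot, inv_mul_eq_one] at h6
          rw [← h6]
          exact l.2
        · intro h
          refine (QuotientGroup.eq_one_iff _).2 ⟨⟨x, h⟩, ?_⟩
          apply MulEquiv.ext
          intro y
          apply Subtype.ext
          rw [MulAut.conjNormal_apply]
          rfl
      have hsolQ : Group.IsSolvable (G ⧸ L) := by
        let f : G ⧸ L →* MulAut L ⧸ (MulAut.conj : L →* MulAut L).range :=
          QuotientGroup.lift L ρ (fun x hx => (hρ x).2 hx)
        refine Group.isSolvable_of_isSolvable_injective (f := f) ?_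
        rw [injective_iff_map_eq_one]
        intro x
        obtain ⟨y, rfl⟩ := QuotientGroup.mk'_surjective L x
        intro h
        exact (QuotientGroup.eq_one_iff y).2 ((hρ y).1 h)
      have hnd : ¬ p ∣ Nat.card (G ⧸ L) := not_dvd_of_pSolvable hp2
        (h2.of_surjective (QuotientGroup.mk' L) (QuotientGroup.mk'_surjective L))
        (fun h => hreal (h.of_quotient hp2)) (Lib.PSolvable.IsPSolvable_of_solvable p)
      have hPL : (P : Subgroup G) ≤ L := by
        intro x hx
        obtain ⟨k, hk⟩ := (IsPGroup.iff_orderOf.1 P.isPGroup') ⟨x, hx⟩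
        rw [Subgroup.orderOf_mk] at hk
        rw [← QuotientGroup.eq_one_iff, ← orderOf_eq_one_iff]
        have h1 : orderOf (QuotientGroup.mk x : G ⧸ L) ∣ p ^ k := by
          rw [← hk]
          exact orderOf_map_dvd (QuotientGroup.mk' L) x
        have h2 : orderOf (QuotientGroup.mk x : G ⧸ L) ∣ Nat.card (G ⧸ L) := orderOf_dvd_natCard _
        exact Nat.eq_one_of_dvd_coprimes (Nat.Coprime.pow_left k ((hp.coprime_iff_not_dvd).2 hnd)) h1 h2
      have h9 := hLs (P.subtype hPL)
      refine ⟨⟨fun a b => Subtype.ext ?_⟩⟩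
      have ha : (⟨(a : G), hPL a.2⟩ : L) ∈ (P.subtype hPL : Subgroup L) := a.2
      have hb : (⟨(b : G), hPL b.2⟩ : L) ∈ (P.subtype hPL : Subgroup L) := b.2
      have h10 := congrArg (fun z : (P.subtype hPL : Subgroup L) => ((z : L) : G)) (h9.1.1 ⟨_, ha⟩ ⟨_, hb⟩)
      exact h10
    · refine ⟨⟨fun a b => Subtype.ext (hmul ?_)⟩⟩
      exact hdisj _ (hcomm_of hLne a.2 b.2) (hcomm_of hC a.2 b.2)
  · have : (Cfsg.pPrimeCore p G).Normal := Lib.Cores.pPrimeCore_normal p
    refine ⟨⟨fun a b => Subtype.ext (hmul ?_)⟩⟩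
    have h1 : ⁅(a : G), (b : G)⁆ ∈ Cfsg.pPrimeCore p G := hcomm_of hO a.2 b.2
    have h3 : ⁅(a : G), (b : G)⁆ ∈ (P : Subgroup G) := by
      rw [commutatorElement_def]
      exact mul_mem (mul_mem (mul_mem a.2 b.2) (inv_mem a.2)) (inv_mem b.2)
    obtain ⟨k, hk⟩ := (IsPGroup.iff_orderOf.1 P.isPGroup') ⟨_, h3⟩
    rw [Subgroup.orderOf_mk] at hk
    have h4 : orderOf ⁅(a : G), (b : G)⁆ ∣ Nat.card (Cfsg.pPrimeCore p G) := by
      rw [← Subgroup.orderOf_mk _ h1]
      exact orderOf_dvd_natCard _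
    have h5 := Lib.Cores.pPrimeCore_coprime (G := G) p
    rw [← orderOf_eq_one_iff]
    exact Nat.eq_one_of_dvd_coprimes (h5.pow_right k) h4 (by rw [hk])

end Cfsg.Agent.H720.Reduce
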