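import Cfsg.Agent.H720.Functional

/-!
# Real elements of E₆(q) and ²E₆(q): the common argument (helper720)

`σ` a Frobenius frame automorphism of `E₆(k)` whose twists are `ε v`, `v ∈ W`, `ε = ± 1`.
-/

set_option autoImplicit false
set_option linter.unusedSectionVars false

namespace Cfsg.Agent.H720.RowSix

open CoxeterSystem Cfsg Cfsg.Lie Cfsg.Lie.ChevalleyDatum
open Cfsg.Agent.ChevalleyStructure Cfsg.Agent.ChevalleyStructure.Elts Cfsg.Agent.ChevalleyStructure.CoxeterGeom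
  Cfsg.Agent.ChevalleyStructure.CoxeterGeomTypes Cfsg.Agent.ChevalleyStructure.NPerm
open Cfsg.Agent.Tits.Roots Cfsg.Agent.Tits.Core Cfsg.Agent.Nodes Cfsg.Agent.Nodes.Reps Cfsg.Agent.Nodes.BNOf
  Cfsg.Agent.Nodes.RGDChev Cfsg.Agent.Nodes.Bruhat Cfsg.Agent.Nodes.SubComb Cfsg.Agent.Nodes.Coroot
open Cfsg.Agent.KFacts.RgdField Cfsg.Agent.KFacts.RgdChevCoord Cfsg.Agent.BpExc.TorCent Cfsg.Agent.BpExc.TorChev
open Cfsg.Agent.GpExc.Field Cfsg.Agent.BpExc.Tow Cfsg.Agent.BpExc.TowChev Cfsg.Agent.BpExc.Fr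
  Cfsg.Agent.BpExc.LangFr Cfsg.Agent.LangThm Cfsg.Agent.BpExc Cfsg.Agent.H129.TorusChar Cfsg.Agent.H129.TorusCent
  Cfsg.Agent.H129.TorusTw Cfsg.Agent.H129.TorusMain Cfsg.Agent.H720.TorusReal
  Cfsg.Agent.H722.RealP Cfsg.Agent.H720.RealTw Cfsg.Agent.H130.WeylCk Cfsg.Agent.H130.WeylTab
  Cfsg.Agent.H720.RowsNeg Cfsg.Agent.H720.Functional

universe u

/-- the degrees of `W(E₆)` -/
def degs6 : List ℕ := [2, 5, 6, 8, 9, 12]

theorem degs6_le : ∀ i ∈ degs6, 0 < i ∧ i ≤ 12 := by decide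

/-- the element `-1` of `W(D₄) ≤ W(E₆)` -/
def wD : List (Fin 6) := [1, 2, 3, 4]

theorem ck_comm1 : ∀ i : Fin 6, acn alE6 wD 3 (acn alE6 ([] : List (Fin 6)) 1 (bas 6 i)) =
    acn alE6 ([] : List (Fin 6)) 1 (acn alE6 wD 3 (bas 6 i)) := by decide +kernel

theorem ck_comm3 : ∀ i : Fin 6, acn alE6 wD 3 (acn alE6 ([2, 3] : List (Fin 6)) 1 (bas 6 i)) =
    acn alE6 ([2, 3] : List (Fin 6)) 1 (acn alE6 wD 3 (bas 6 i)) := by decide +kernel

theorem ck_neg : ∀ i : Fin 6, dot [-1, 0, 2, -1, 0, 0] (acn alE6 wD 3 (bas 6 i)) =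
    -dot [-1, 0, 2, -1, 0, 0] (bas 6 i) := by decide +kernel

theorem ck_one : ∀ i : Fin 6, acn alE6 ([] : List (Fin 6)) (1 * 1) (bas 6 i) = bas 6 i := by decide +kernel

theorem ck_three : ∀ i : Fin 6, acn alE6 ([2, 3] : List (Fin 6)) (1 * 3) (bas 6 i) = bas 6 i := by decide +kernel

theorem ck_five : ∀ i : Fin 6, acn alE6 ([0, 2, 3, 4] : List (Fin 6)) (1 * 5) (bas 6 i) = bas 6 i := by
  decide +kernel

theorem ck_nine : ∀ i : Fin 6, acn alE6 ([3, 1, 0, 2, 3, 2, 4, 5] : List (Fin 6)) (1 * 9) (bas 6 i) = bas 6 i := by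
  decide +kernel

section Main

variable (hp : IsType chevE6 6 CoxeterMatrix.E₆) {k : Type u} [Field k]
  {W : Type*} [Group W] (cs : CoxeterSystem CoxeterMatrix.E₆ W) {p e : ℕ} [Fact p.Prime] [CharP k p]
  {σ : MulAut ↥(chevE6.group k)} {g : (Fin 6 → ℤ) ≃+ (Fin 6 → ℤ)}
  [IsAlgClosed k] [Finite W] (hk : LocFin k) (he : 0 < e) (hσ : IsFrob p e σ)
  (F : Fr cs hp.isCartan (TT chevE6 k) (XX chevE6 6 k) σ g) (hN : NSys CoxeterMatrix.E₆ (TT chevE6 k) (nc hp k))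
  {G0 : Type*} [Group G0] [Finite G0] {e0 : G0 →* ↥(chevE6.group k)} (he0 : Function.Injective e0)
  (hfix : ∀ x, σ (e0 x) = e0 x) {m : ℕ} (hm : Odd m) {ε : ℤ} (hε : ε * ε = 1)
  (hgv : ∀ w : W, ∃ v : W, ∀ x, theta hp cs w g x = ε • rep cs hp.isCartan v x)
  (hvg : ∀ v : W, ∃ w : W, ∀ x, theta hp cs w g x = ε • rep cs hp.isCartan v x)
  (hdesc : ∀ y : ↥(chevE6.group k), σ y = y → y ^ m ∈ e0.range)

include hε in
theorem mod_eps {r c c' q : ℤ} (h : c' ≡ (ε * q) * c [ZMOD r]) : ε * c' ≡ q * c [ZMOD r] := by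
  have h1 := h.mul_left ε
  have e : ε * (ε * q * c) = (ε * ε) * (q * c) := by ring
  rwa [e, hε, one_mul] at h1

include hk he hσ F hN he0 hm hε hvg hdesc in
/-- **the cases `d = 1, 3`** -/
theorem real_small {s : ℕ} (hs : s.Prime) (hsp : s ≠ p) (hms : m.Coprime s) {L : List (Fin 6)} {d : ℕ} (hd0 : 0 < d)
    (hck : ∀ i : Fin 6, acn alE6 L (1 * d) (bas 6 i) = bas 6 i)
    (hcomm : ∀ i : Fin 6, acn alE6 wD 3 (acn alE6 L 1 (bas 6 i)) = acn alE6 L 1 (acn alE6 wD 3 (bas 6 i)))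
    (hQ : (ε * (p ^ e : ℕ)) ^ d ≡ 1 [ZMOD s]) {x₀ : List ℤ} (hx₀ : x₀.length = 6)
    (hval : ¬ (s : ℤ) ∣ ∑ j ∈ Finset.range d, (ε * (p ^ e : ℕ)) ^ (d - j) * dot [-1, 0, 2, -1, 0, 0] (acn alE6 L (1 * j) x₀)) :
    HasReal s G0 := by
  obtain ⟨w, hw⟩ := hvg (cs.wordProd L ^ 1)
  have hV := rep_pow_eq_one lists_E6 cs hp.isCartan (L := L) (n := 1) (d := d) hck
  have hcm := rep_comm lists_E6 cs hp.isCartan (L := wD) (n := 3) (L' := L) (n' := 1) hcomm
  refine hasReal_expl hp cs hk he hσ F invC_E6 three_ne_zero hN he0 hs hsp hm hms hdesc (w := w)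
    (w' := cs.wordProd wD ^ 3)
    (c := (cfun (rep cs hp.isCartan (cs.wordProd L ^ 1)) (fn 6 [-1, 0, 2, -1, 0, 0]) d
      (ε * (p ^ e : ℕ))).toAddMonoidHom) (fun i => ?_) (fun x => ?_) (fun i => ?_) (x₀ := toFn 6 x₀) ?_
  · show cfun _ _ _ _ (theta hp cs w g (sr i)) ≡ _ * cfun _ _ _ _ (sr i) [ZMOD s]
    rw [hw, map_smul, smul_eq_mul]
    exact mod_eps hε (cfun_mod hd0 hV _ hQ _)
  · rw [hw, hw, map_smul, hcm]
  · show cfun _ _ _ _ (rep cs hp.isCartan (cs.wordProd wD ^ 3) (sr i)) ≡ -cfun _ _ _ _ (sr i) [ZMOD s]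
    rw [cfun_neg hcm (fn_neg lists_E6 cs hp.isCartan (by rfl) ck_neg)]
  · show ¬ (s : ℤ) ∣ cfun _ _ _ _ (toFn 6 x₀)
    rw [cfun_val lists_E6 cs hp.isCartan (by rfl) hx₀]
    exact hval

include hk he hσ F hN he0 hε hvg hdesc in
/-- **the cases `d = 5, 9`** -/
theorem cyc_large {r : ℕ} (hr0 : r ≠ 0) (hrp : r.Coprime p) (hmr : m.Coprime r) {L : List (Fin 6)} {d : ℕ} (hd0 : 0 < d)
    (hck : ∀ i : Fin 6, acn alE6 L (1 * d) (bas 6 i) = bas 6 i)
    (hQ : (ε * (p ^ e : ℕ)) ^ d ≡ 1 [ZMOD r]) {lam x₀ : List ℤ} (hlam : lam.length = 6) (hx₀ : x₀.length = 6)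
    (hval : IsCoprime (r : ℤ) (∑ j ∈ Finset.range d, (ε * (p ^ e : ℕ)) ^ (d - j) * dot lam (acn alE6 L (1 * j) x₀))) :
    ∃ x : G0, orderOf x = r := by
  obtain ⟨w, hw⟩ := hvg (cs.wordProd L ^ 1)
  have hV := rep_pow_eq_one lists_E6 cs hp.isCartan (L := L) (n := 1) (d := d) hck
  refine exists_orderOf hp cs hk he hσ F invC_E6 three_ne_zero hN he0 hr0 hrp hmr hdesc (w := w)
    (c := (cfun (rep cs hp.isCartan (cs.wordProd L ^ 1)) (fn 6 lam) d
      (ε * (p ^ e : ℕ))).toAddMonoidHom) (fun i => ?_) (x₀ := toFn 6 x₀) ?_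
  · show cfun _ _ _ _ (theta hp cs w g (sr i)) ≡ _ * cfun _ _ _ _ (sr i) [ZMOD r]
    rw [hw, map_smul, smul_eq_mul]
    exact mod_eps hε (cfun_mod hd0 hV _ hQ _)
  · show IsCoprime (r : ℤ) (cfun _ _ _ _ (toFn 6 x₀))
    rw [cfun_val lists_E6 cs hp.isCartan hlam hx₀]
    exact hval

/-- orders modulo `s` -/
theorem dvd_sub_one_iff {s : ℕ} {Q : ℤ} (i : ℕ) : (s : ℤ) ∣ Q ^ i - 1 ↔ orderOf ((Q : ℤ) : ZMod s) ∣ i := by
  rw [orderOf_dvd_iff_pow_eq_one, ← ZMod.intCast_zmod_eq_zero_iff_dvd, Int.cast_sub, Int.cast_pow, Int.cast_one,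
    sub_eq_zero]

include hk he hσ F hN he0 hfix hm hε hgv hvg hdesc in
/-- **The main theorem for the types `E₆`, `²E₆`.** -/
theorem main' (hA : Cfsg.Agent.BpExc.TorAll.HAlg p k) {s : ℕ} (hs : s.Prime) (hsp : s ≠ p) (hms : m.Coprime s)
    (hsG : s ∣ Nat.card G0)
    (hcard : (Nat.card G0 : ℤ) ∣ ((p ^ e : ℕ) : ℤ) ^ 36 * (degs6.map (fun i => (ε * (p ^ e : ℕ)) ^ i - 1)).prod) :
    HasReal s G0 ∨ ((orderOf (((ε * (p ^ e : ℕ) : ℤ)) : ZMod s) = 5 ∨ orderOf (((ε * (p ^ e : ℕ) : ℤ)) : ZMod s) = 9) ∧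
      ∃ x : G0, orderOf x = s ^ (Nat.card G0).factorization s) := by
  have hsf : Fact s.Prime := ⟨hs⟩
  set Q : ℤ := ε * (p ^ e : ℕ) with hQdef
  set d := orderOf ((Q : ℤ) : ZMod s) with hd
  have hsi : Prime (s : ℤ) := Nat.prime_iff_prime_int.1 hs
  have hpe : ¬ (s : ℤ) ∣ ((p ^ e : ℕ) : ℤ) := by
    intro h
    have h1 : s ∣ p ^ e := by exact_mod_cast h
    exact hsp ((Nat.prime_dvd_prime_iff_eq hs Fact.out).1 (hs.dvd_of_dvd_pow h1))
  have hεs : ¬ (s : ℤ) ∣ ε := by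
    intro h
    have h1 := h.mul_right ε
    rw [hε] at h1
    exact hsi.not_isUnit (isUnit_of_dvd_one h1)
  have hQs : ¬ (s : ℤ) ∣ Q := by
    intro h
    rcases hsi.dvd_or_dvd h with h | h
    · exact hεs h
    · exact hpe h
  have hdvd : ∀ i : ℕ, (s : ℤ) ∣ Q ^ i - 1 ↔ d ∣ i := fun i => dvd_sub_one_iff i
  -- `d` divides a degree
  have hmem : ∃ i ∈ degs6, d ∣ i := by
    have h1 : (s : ℤ) ∣ ((p ^ e : ℕ) : ℤ) ^ 36 * (degs6.map (fun i => Q ^ i - 1)).prod :=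
      (Int.natCast_dvd_natCast.2 hsG).trans hcard
    rcases hsi.dvd_or_dvd h1 with h2 | h2
    · exact absurd (hsi.dvd_of_dvd_pow h2) hpe
    · obtain ⟨a, ha, h3⟩ := (Prime.dvd_prod_iff hsi).1 h2
      obtain ⟨i, hi, rfl⟩ := List.mem_map.1 ha
      exact ⟨i, hi, (hdvd i).1 h3⟩
  have hd0 : 0 < d := by
    obtain ⟨i, hi, h1⟩ := hmem
    rcases Nat.eq_zero_or_pos d with h0 | h0
    · rw [h0] at h1
      have h2 := Nat.eq_zero_of_zero_dvd h1
      have h3 := (degs6_le i hi).1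
      omega
    · exact h0
  rcases Nat.even_or_odd d with hev | hodd
  · -- even
    left
    obtain ⟨i, hi⟩ := hev
    have hi0 : 0 < i := by omega
    have h1 : ((Q : ℤ) : ZMod s) ^ i * ((Q : ℤ) : ZMod s) ^ i = 1 := by
      rw [← pow_add, ← hi, hd, pow_orderOf_eq_one]
    have h2 : ((Q : ℤ) : ZMod s) ^ i = -1 := by
      rcases mul_self_eq_one_iff.1 h1 with h3 | h3
      · exfalso
        have h4 := orderOf_dvd_of_pow_eq_one h3
        rw [← hd] at h4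
        exact absurd (Nat.le_of_dvd hi0 h4) (by omega)
      · exact h3
    refine hasReal_even hp cs hA hk he hσ F invC_E6 three_ne_zero hN he0 hfix hs hsp hm hms hdesc hsG hε hgv (i := i) ?_
    rw [← ZMod.intCast_eq_intCast_iff]
    push_cast
    push_cast at h2
    rw [hQdef] at h2
    push_cast at h2
    exact h2
  · -- odd
    have hcases : d = 1 ∨ d = 3 ∨ d = 5 ∨ d = 9 := by
      obtain ⟨i, hi, h1⟩ := hmem
      have hle : d ≤ 12 := by
        exact (Nat.le_of_dvd (degs6_le i hi).1 h1).trans (degs6_le i hi).2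
      simp only [degs6, List.mem_cons, List.not_mem_nil, or_false] at hi
      rcases hi with rfl | rfl | rfl | rfl | rfl | rfl <;>
        (clear_value d; interval_cases d <;> first | omega | (exfalso; revert h1; decide) | (exfalso; revert hodd; decide))
    have hQd : Q ^ d ≡ 1 [ZMOD s] := by
      have h1 := (hdvd d).2 dvd_rfl
      exact ((Int.modEq_iff_dvd).2 h1).symm
    have hQi : ∀ i : ℕ, ¬ d ∣ i → ¬ (s : ℤ) ∣ Q ^ i - 1 := fun i h1 h2 => h1 ((hdvd i).1 h2)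
    -- the `s`-part
    have hpart : ∀ i₀ ∈ degs6, (∀ i ∈ degs6, i ≠ i₀ → ¬ d ∣ i) →
        ((s ^ (Nat.card G0).factorization s : ℕ) : ℤ) ∣ Q ^ i₀ - 1 := by
      intro i₀ hi₀ hne
      have h1 : ((s ^ (Nat.card G0).factorization s : ℕ) : ℤ) ∣
          ((p ^ e : ℕ) : ℤ) ^ 36 * (degs6.map (fun i => Q ^ i - 1)).prod :=
        (Int.natCast_dvd_natCast.2 (Nat.ordProj_dvd _ _)).trans hcard
      have hco : ∀ a : ℤ, ¬ (s : ℤ) ∣ a → IsCoprime ((s ^ (Nat.card G0).factorization s : ℕ) : ℤ) a := by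
        intro a ha
        rw [Nat.cast_pow]
        exact IsCoprime.pow_left ((Prime.coprime_iff_not_dvd hsi).2 ha)
      have h2 := (hco _ (fun h => hpe (hsi.dvd_of_dvd_pow h))).dvd_of_dvd_mul_left h1
      have key : ∀ T : List ℕ, (∀ i ∈ T, i ∈ degs6) → T.Nodup →
          ((s ^ (Nat.card G0).factorization s : ℕ) : ℤ) ∣ (T.map (fun i => Q ^ i - 1)).prod →
          ((s ^ (Nat.card G0).factorization s : ℕ) : ℤ) ∣ Q ^ i₀ - 1 := by
        intro T
        induction T with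
        | nil =>
          intro _ _ h3
          rw [List.map_nil, List.prod_nil] at h3
          exact h3.trans (one_dvd _)
        | cons a T ih =>
          intro hT hnd h3
          rw [List.map_cons, List.prod_cons] at h3
          have hnd' := List.nodup_cons.1 hnd
          by_cases ha : a = i₀
          · subst ha
            have h4 : ∀ T' : List ℕ, (∀ i ∈ T', i ∈ degs6 ∧ i ≠ a) →
                IsCoprime ((s ^ (Nat.card G0).factorization s : ℕ) : ℤ) (T'.map (fun i => Q ^ i - 1)).prod := by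
              intro T'
              induction T' with
              | nil => intro _; rw [List.map_nil, List.prod_nil]; exact isCoprime_one_right
              | cons b T' ih' =>
                intro hb
                rw [List.map_cons, List.prod_cons]
                have hb0 := hb b (by simp)
                exact (hco _ (hQi b (hne b hb0.1 hb0.2))).mul_right
                  (ih' fun i hi => hb i (List.mem_cons_of_mem _ hi))
            exact (h4 T fun i hi => ⟨hT i (List.mem_cons_of_mem _ hi), fun h => hnd'.1 (h ▸ hi)⟩).dvd_of_dvd_mul_right h3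
          · have h4 := hco _ (hQi a (hne a (hT a (by simp)) ha))
            exact ih (fun i hi => hT i (List.mem_cons_of_mem _ hi)) hnd'.2 (h4.dvd_of_dvd_mul_left h3)
      exact key degs6 (fun i hi => hi) (by decide) h2
    have hs0 : s ^ (Nat.card G0).factorization s ≠ 0 := pow_ne_zero _ hs.ne_zero
    have hsp' : (s ^ (Nat.card G0).factorization s).Coprime p :=
      Nat.Coprime.pow_left _ ((Nat.coprime_primes hs Fact.out).2 hsp)
    have hms' : m.Coprime (s ^ (Nat.card G0).factorization s) := hms.pow_right _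
    have hco : ∀ a : ℤ, ¬ (s : ℤ) ∣ a → IsCoprime ((s ^ (Nat.card G0).factorization s : ℕ) : ℤ) a := by
      intro a ha
      rw [Nat.cast_pow]
      exact IsCoprime.pow_left ((Prime.coprime_iff_not_dvd hsi).2 ha)
    rcases hcases with h1 | h1 | h1 | h1
    · left
      rw [h1] at hQd
      refine real_small hp cs hk he hσ F hN he0 hm hε hvg hdesc hs hsp hms (L := []) (d := 1) one_pos ck_one ck_comm1
        hQd (x₀ := [-1, 0, 0, 0, 0, 0]) rfl ?_
      rw [Finset.sum_range_one]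
      show ¬ (s : ℤ) ∣ Q ^ (1 - 0) * 1
      rw [mul_one, Nat.sub_zero, pow_one]
      exact hQs
    · left
      rw [h1] at hQd
      refine real_small hp cs hk he hσ F hN he0 hm hε hvg hdesc hs hsp hms (L := [2, 3]) (d := 3) (by norm_num)
        ck_three ck_comm3 hQd (x₀ := [-1, -1, -1, -1, 1, -1]) rfl ?_
      have h2 : ∑ j ∈ Finset.range 3, Q ^ (3 - j) * dot [-1, 0, 2, -1, 0, 0]
          (acn alE6 ([2, 3] : List (Fin 6)) (1 * j) [-1, -1, -1, -1, 1, -1]) = Q * (Q ^ 1 - 1) := by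
        simp only [Finset.sum_range_succ, Finset.sum_range_zero]
        have e0 : dot [-1, 0, 2, -1, 0, 0] (acn alE6 ([2, 3] : List (Fin 6)) (1 * 0) [-1, -1, -1, -1, 1, -1]) = 0 := by
          decide +kernel
        have e1 : dot [-1, 0, 2, -1, 0, 0] (acn alE6 ([2, 3] : List (Fin 6)) (1 * 1) [-1, -1, -1, -1, 1, -1]) = 1 := by
          decide +kernel
        have e2 : dot [-1, 0, 2, -1, 0, 0] (acn alE6 ([2, 3] : List (Fin 6)) (1 * 2) [-1, -1, -1, -1, 1, -1]) = -1 := by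
          decide +kernel
        rw [e0, e1, e2]
        ring
      rw [h2]
      intro h3
      rcases hsi.dvd_or_dvd h3 with h4 | h4
      · exact hQs h4
      · exact hQi 1 (by rw [h1]; decide) h4
    · refine Or.inr ⟨Or.inl h1, ?_⟩
      have h5 := hpart 5 (by decide) (by rw [h1]; decide)
      refine cyc_large hp cs hk he hσ F hN he0 hε hvg hdesc hs0 hsp' hms' (L := [0, 2, 3, 4]) (d := 5) (by norm_num)
        ck_five (((Int.modEq_iff_dvd).2 h5).symm) (lam := [0, 0, 0, 0, 1, 0]) (x₀ := [1, 0, 0, 0, 0, 0]) rfl rfl ?_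
      have h2 : ∑ j ∈ Finset.range 5, Q ^ (5 - j) * dot [0, 0, 0, 0, 1, 0]
          (acn alE6 ([0, 2, 3, 4] : List (Fin 6)) (1 * j) [1, 0, 0, 0, 0, 0]) = Q * (Q ^ 1 - 1) := by
        simp only [Finset.sum_range_succ, Finset.sum_range_zero]
        have e0 : dot [0, 0, 0, 0, 1, 0] (acn alE6 ([0, 2, 3, 4] : List (Fin 6)) (1 * 0) [1, 0, 0, 0, 0, 0]) = 0 := by
          decide +kernel
        have e1 : dot [0, 0, 0, 0, 1, 0] (acn alE6 ([0, 2, 3, 4] : List (Fin 6)) (1 * 1) [1, 0, 0, 0, 0, 0]) = 0 := by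
          decide +kernel
        have e2 : dot [0, 0, 0, 0, 1, 0] (acn alE6 ([0, 2, 3, 4] : List (Fin 6)) (1 * 2) [1, 0, 0, 0, 0, 0]) = 0 := by
          decide +kernel
        have e3 : dot [0, 0, 0, 0, 1, 0] (acn alE6 ([0, 2, 3, 4] : List (Fin 6)) (1 * 3) [1, 0, 0, 0, 0, 0]) = 1 := by
          decide +kernel
        have e4 : dot [0, 0, 0, 0, 1, 0] (acn alE6 ([0, 2, 3, 4] : List (Fin 6)) (1 * 4) [1, 0, 0, 0, 0, 0]) = -1 := by
          decide +kernel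
        rw [e0, e1, e2, e3, e4]
        ring
      rw [h2]
      refine hco _ fun h3 => ?_
      rcases hsi.dvd_or_dvd h3 with h4 | h4
      · exact hQs h4
      · exact hQi 1 (by rw [h1]; decide) h4
    · refine Or.inr ⟨Or.inr h1, ?_⟩
      have h5 := hpart 9 (by decide) (by rw [h1]; decide)
      refine cyc_large hp cs hk he hσ F hN he0 hε hvg hdesc hs0 hsp' hms' (L := [3, 1, 0, 2, 3, 2, 4, 5]) (d := 9)
        (by norm_num) ck_nine (((Int.modEq_iff_dvd).2 h5).symm) (lam := [0, 0, 0, 0, 0, 1]) (x₀ := [0, 0, 0, 1, 0, 0])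
        rfl rfl ?_
      have h2 : ∑ j ∈ Finset.range 9, Q ^ (9 - j) * dot [0, 0, 0, 0, 0, 1]
          (acn alE6 ([3, 1, 0, 2, 3, 2, 4, 5] : List (Fin 6)) (1 * j) [0, 0, 0, 1, 0, 0]) = Q * (Q ^ 6 - 1) := by
        have e : ∀ j : Fin 9, dot [0, 0, 0, 0, 0, 1] (acn alE6 ([3, 1, 0, 2, 3, 2, 4, 5] : List (Fin 6)) (1 * j)
            [0, 0, 0, 1, 0, 0]) = ![0, 0, 1, 0, 0, 0, 0, 0, -1] j := by
          decide +kernel
        have e' : ∀ (j : ℕ) (hj : j < 9), dot [0, 0, 0, 0, 0, 1] (acn alE6 ([3, 1, 0, 2, 3, 2, 4, 5] : List (Fin 6)) (1 * j)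
            [0, 0, 0, 1, 0, 0]) = ![0, 0, 1, 0, 0, 0, 0, 0, -1] (⟨j, hj⟩ : Fin 9) := fun j hj => e ⟨j, hj⟩
        simp only [Finset.sum_range_succ, Finset.sum_range_zero]
        rw [e' 0 (by norm_num), e' 1 (by norm_num), e' 2 (by norm_num), e' 3 (by norm_num), e' 4 (by norm_num),
          e' 5 (by norm_num), e' 6 (by norm_num), e' 7 (by norm_num), e' 8 (by norm_num)]
        show 0 + Q ^ (9 - 0) * 0 + Q ^ (9 - 1) * 0 + Q ^ (9 - 2) * 1 + Q ^ (9 - 3) * 0 + Q ^ (9 - 4) * 0 +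
          Q ^ (9 - 5) * 0 + Q ^ (9 - 6) * 0 + Q ^ (9 - 7) * 0 + Q ^ (9 - 8) * (-1) = _
        ring
      rw [h2]
      refine hco _ fun h3 => ?_
      rcases hsi.dvd_or_dvd h3 with h4 | h4
      · exact hQs h4
      · exact hQi 6 (by rw [h1]; decide) h4

include hk he hσ F hN he0 hfix hm hε hgv hvg hdesc in
/-- The main theorem, without the order of `q`. -/
theorem main (hA : Cfsg.Agent.BpExc.TorAll.HAlg p k) {s : ℕ} (hs : s.Prime) (hsp : s ≠ p) (hms : m.Coprime s)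
    (hsG : s ∣ Nat.card G0)
    (hcard : (Nat.card G0 : ℤ) ∣ ((p ^ e : ℕ) : ℤ) ^ 36 * (degs6.map (fun i => (ε * (p ^ e : ℕ)) ^ i - 1)).prod) :
    HasReal s G0 ∨ ∃ x : G0, orderOf x = s ^ (Nat.card G0).factorization s :=
  (main' hp cs hk he hσ F hN he0 hfix hm hε hgv hvg hdesc hA hs hsp hms hsG hcard).imp id And.right

end Main

end Cfsg.Agent.H720.RowSix
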