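import Cfsg.Agent.H720.TableLie
import Cfsg.Agent.H721.Table

/-!
# The table of real elements of prime order (helper720)

`table` : in a known nonabelian finite simple group `S`, for an odd prime `p` dividing `|S|`, some element of order `p` is
real, or the Sylow `p`-subgroups are cyclic, or `S` is `PSL_2(F)` with `F` of characteristic `p` and `|F| ≡ 3` mod 4.
-/

set_option autoImplicit false

namespace Cfsg.Agent.H720.Table

open Cfsg Cfsg.Agent.H722.RealP Cfsg.Agent.H720.RowDef

universe u

theorem table {S : Type u} [Group S] [Finite S] [IsSimpleGroup S] (hna : ¬ IsMulCommutative S)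
    (h : Cfsg.IsKnownSimple' S) {p : ℕ} (hp : p.Prime) (hp2 : p ≠ 2) (hd : p ∣ Nat.card S) : Row p S := by
  have h5 : p ≠ 3 → 5 ≤ p := by
    intro hp3
    have h2 := hp.two_le
    by_contra hlt
    have h4 : p = 4 := by omega
    rw [h4] at hp
    exact absurd hp (by norm_num)
  exact table_of hna h hp hp2 hd
    (fun hp3 ht => Cfsg.Agent.H721.Table.row_tits ht hp (h5 hp3) hd)
    (fun hp3 hs => Cfsg.Agent.H721.Table.row_sporadic hs (fun h => hna ⟨⟨h⟩⟩) hp (h5 hp3) hd)

end Cfsg.Agent.H720.Table
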