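import Cfsg.Agent.H720.RowsExc
import Cfsg.Agent.H501.RowPSL
import Cfsg.Agent.H501.RowPSp
import Cfsg.Agent.H501.RowPSU
import Cfsg.Agent.H501.RowOmega
import Cfsg.Agent.H501.RowAlt
import Cfsg.Agent.H501.RowTwF
import Cfsg.Agent.S4976

/-!
# The table of real elements of prime order: all families but the sporadic groups and the Tits group (helper720)
-/

set_option autoImplicit false

namespace Cfsg.Agent.H720.Table

open Cfsg Cfsg.Agent.H722.RealP Cfsg.Agent.H720.RowDef Cfsg.Agent.H720.RowsExc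
open Cfsg.Agent.H501.RealGen Cfsg.Agent.H501.RowPSL Cfsg.Agent.H501.RowPSp Cfsg.Agent.H501.RowPSU
  Cfsg.Agent.H501.RowOmega Cfsg.Agent.H501.RowAlt Cfsg.Agent.H501.RowTwF

universe u

theorem of_TT {p : ℕ} {S : Type u} [Group S] (h : TT p S) : Row p S := by
  rcases h.sylow with h | h
  · exact Or.inl h
  · exact Or.inr (Or.inl h)

/-- The case `p = 3`. -/
theorem row_three {S : Type u} [Group S] [Finite S] [IsSimpleGroup S] (hna : ¬ IsMulCommutative S)
    (hd : 3 ∣ Nat.card S) : Row 3 S := by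
  by_cases h : HasReal 3 S
  · exact Or.inl h
  · obtain ⟨f, hf, e⟩ := Cfsg.Agent.S4976.simpleThm S inferInstance hna hd h
    have : Fintype (GaloisField 3 (2 * f + 1)) := Fintype.ofFinite _
    refine Or.inr (Or.inr ⟨GaloisField 3 (2 * f + 1), inferInstance, inferInstance, inferInstance, ?_, e⟩)
    rw [← Nat.card_eq_fintype_card, GaloisField.card 3 _ (by omega), pow_succ, pow_mul, Nat.mul_mod, Nat.pow_mod]
    norm_num

/-- The known simple groups, except the sporadic groups and the Tits group. -/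
theorem row_of {S : Type u} [Group S] [Finite S] [IsSimpleGroup S] (hna : ¬ IsMulCommutative S)
    (h : Cfsg.IsKnownSimple' S) {p : ℕ} (hp : p.Prime) (hp2 : p ≠ 2) (hp3 : p ≠ 3) (hd : p ∣ Nat.card S) :
    Row p S ∨ Lie.IsoTits S ∨ IsSporadicGroup S := by
  have : Fact p.Prime := ⟨hp⟩
  rcases h with h | h | h | h | h | h | h | h | h | h
  · exfalso
    have : Fact (Nat.card S).Prime := ⟨h⟩
    have := isCyclic_of_prime_card (α := S) rfl
    exact hna ⟨⟨fun a b => IsCyclic.commGroup.mul_comm a b⟩⟩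
  · rcases row_alt h (p := p) with h | h
    · exact Or.inl (Or.inl h)
    · exact Or.inl (Or.inr (Or.inl h))
  · rcases row_psl h hp2 hd with h | h
    · exact Or.inl (of_TT h)
    · exact Or.inl (Or.inr (Or.inr h))
  · exact Or.inl (Or.inl (row_psp h hp2 hd))
  · exact Or.inl (of_TT (row_psu h hp2 hd))
  · exact Or.inl (of_TT (row_omega_odd h hp2))
  · exact Or.inl (of_TT (row_omega_plus h hp2))
  · exact Or.inl (of_TT (row_omega_minus h hp2))
  · rcases h with h | h | h | h | h | h | h | h | h | h | h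
    · exact Or.inl (rowG2 h hp hd)
    · exact Or.inl (rowF4 h hp hd)
    · exact Or.inl (rowE6 h hp hp3 hd)
    · exact Or.inl (rowE7 h hp hp2 hp3 hd)
    · exact Or.inl (rowE8 h hp hd)
    · exact Or.inl (row2E6 h hp hp3 hd)
    · exact Or.inl (row3D4 h hp hd)
    · exact Or.inl (rowSz h hp hp2 hd)
    · exact Or.inl (rowRee h hp hp2 hp3)
    · exact Or.inl (Or.inl (row_2F4 h hp hp2 hd))
    · exact Or.inr (Or.inl h)
  · exact Or.inr (Or.inr h)

/-- The table, from the rows of the sporadic groups and the Tits group. -/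
theorem table_of {S : Type u} [Group S] [Finite S] [IsSimpleGroup S] (hna : ¬ IsMulCommutative S)
    (h : Cfsg.IsKnownSimple' S) {p : ℕ} (hp : p.Prime) (hp2 : p ≠ 2) (hd : p ∣ Nat.card S)
    (ht : p ≠ 3 → Lie.IsoTits S → Row p S) (hs : p ≠ 3 → IsSporadicGroup S → Row p S) : Row p S := by
  by_cases hp3 : p = 3
  · subst hp3
    exact row_three hna hd
  · rcases row_of hna h hp hp2 hp3 hd with h | h | h
    · exact h
    · exact ht hp3 h
    · exact hs hp3 h

end Cfsg.Agent.H720.Table
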